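import Mathlib.AlgebraicGeometry.Morphisms.Smooth
import Mathlib.AlgebraicGeometry.Geometrically.Reduced
import Mathlib.RingTheory.RingHom.StandardSmooth
import Groth.Agent.HenselLib.EtaleReduced

/-!
# Smooth morphisms are geometrically reduced
-/

universe u

open CategoryTheory Limits AlgebraicGeometry

namespace Groth.Agent.AbSchLib

theorem isReduced_of_smooth {X Y : Scheme.{u}} (f : X ⟶ Y) [Smooth f] [IsReduced Y] : IsReduced X := by
  have key : ∀ x : X, ∃ V : X.Opens, x ∈ V ∧ IsReduced V := by
    intro x
    obtain ⟨U, hU, V, hV, hxV, e, h⟩ := Smooth.exists_isStandardSmooth f x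
    obtain ⟨n, g, -, hg⟩ := h.exists_etale_mvPolynomial
    algebraize [g]
    have : _root_.IsReduced Γ(X, V) :=
      Groth.Agent.HenselLib.isReduced_of_etale (MvPolynomial (Fin n) Γ(Y, U)) _
    refine ⟨V, hxV, ?_⟩
    have : IsAffine V := hV
    have : _root_.IsReduced Γ(V.toScheme, ⊤) :=
      isReduced_of_injective V.topIso.hom.hom (ConcreteCategory.bijective_of_isIso V.topIso.hom).1
    exact isReduced_of_isAffine_isReduced _
  have : ∀ x : X, _root_.IsReduced (X.presheaf.stalk x) := fun x => by
    obtain ⟨V, hxV, hV⟩ := key x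
    have : _root_.IsReduced (V.toScheme.presheaf.stalk ⟨x, hxV⟩) := inferInstance
    exact isReduced_of_injective (V.stalkIso ⟨x, hxV⟩).inv.hom
      (ConcreteCategory.bijective_of_isIso (V.stalkIso ⟨x, hxV⟩).inv).1
  exact isReduced_of_isReduced_stalk _

theorem geometricallyReduced_of_smooth {X Y : Scheme.{u}} (f : X ⟶ Y) [Smooth f] : GeometricallyReduced f := by
  refine ⟨fun K _ y P fst snd h => ?_⟩
  have : Smooth snd := MorphismProperty.of_isPullback h inferInstance
  exact isReduced_of_smooth snd

end Groth.Agent.AbSchLib
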