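import Groth.Agent.SGA3cLib.GeomConn

/-!
# Connected fibres and a section give geometrically connected fibres
-/

set_option autoImplicit false

universe u

open CategoryTheory CategoryTheory.Limits AlgebraicGeometry

namespace Groth.Agent.AbSchLib

/-- A morphism with a section and connected fibres has geometrically connected fibres. -/
theorem geometricallyConnected_of_section {X S : Scheme.{u}} (f : X ⟶ S) (e : S ⟶ X) (he : e ≫ f = 𝟙 S)
    (h : ∀ s : S, ConnectedSpace ↥(f.fiber s)) : GeometricallyConnected f := by
  rw [GeometricallyConnected.iff_geometricallyConnected_fiber]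
  intro s
  have := h s
  let x : Spec (CommRingCat.of (S.residueField s)) ⟶ f.fiber s :=
    pullback.lift (S.fromSpecResidueField s ≫ e) (𝟙 _) (by rw [Category.assoc, he, Category.comp_id, Category.id_comp])
  have := Groth.Agent.SGA3cLib.geometricallyConnected_of_rational_point (S.residueField s)
    (f.fiberToSpecResidueField s) (𝟙 (f.fiber s)) x (pullback.lift_snd _ _ _) (by simp)
  simpa using this

end Groth.Agent.AbSchLib
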