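import Groth.Agent.AbSchLib.AlgRigid
import Mathlib.RingTheory.Extension.Presentation.Core
import Mathlib.RingTheory.Flat.Stability

/-!
# Rigidity of sections over an arbitrary local ring: choice of a Noetherian model
-/

universe u

namespace Groth.Agent.AbSchLib

open TensorProduct IsLocalRing

theorem exists_fg_ge {R A : Type u} [CommRing R] [CommRing A] [Algebra R A] {ι : Type*} [Finite ι]
    (f : ι → Subalgebra R A) (hf : ∀ i, (f i).FG) : ∃ T : Subalgebra R A, T.FG ∧ ∀ i, f i ≤ T := by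
  classical
  cases nonempty_fintype ι
  exact ⟨Finset.univ.sup f, Finset.sup_induction (p := fun S : Subalgebra R A => S.FG) Subalgebra.fg_bot
    (fun a ha b hb => ha.sup hb) (fun x _ => hf x), fun i => Finset.le_sup (Finset.mem_univ i)⟩

section Stage

variable {R A : Type u} [CommRing R] [CommRing A] [Algebra R A] {M N : Type u} [CommRing M] [Algebra R M]
  [CommRing N] [Algebra R N]

/-- Extension of a descended homomorphism to the stage. -/
noncomputable def stageExt {A₂ : Subalgebra R A} (f : M →ₐ[R] A₂ ⊗[R] N) : A₂ ⊗[R] M →ₐ[R] A₂ ⊗[R] N :=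
  Algebra.TensorProduct.lift Algebra.TensorProduct.includeLeft f (fun _ _ => Commute.all _ _)

theorem stageExt_tmul_one {A₂ : Subalgebra R A} (f : M →ₐ[R] A₂ ⊗[R] N) (a : A₂) :
    stageExt f (a ⊗ₜ 1) = a ⊗ₜ 1 := by
  simp [stageExt]

theorem stageVal_stageExt {A₂ : Subalgebra R A} (f : M →ₐ[R] A₂ ⊗[R] N) (r : A ⊗[R] M →ₐ[A] A ⊗[R] N)
    (h : ∀ m, stageVal N A₂ (f m) = r ((1 : A) ⊗ₜ m)) (x : A₂ ⊗[R] M) :
    stageVal N A₂ (stageExt f x) = r (stageVal M A₂ x) := by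
  induction x using TensorProduct.induction_on with
  | zero => simp
  | tmul a m =>
    simp only [stageExt, Algebra.TensorProduct.lift_tmul, map_mul, h]
    have e : stageVal M A₂ (a ⊗ₜ m) = (a : A) • ((1 : A) ⊗ₜ[R] m) := by
      rw [TensorProduct.smul_tmul', smul_eq_mul, mul_one]; simp
    rw [e, map_smul, Algebra.smul_def]
    simp
  | add x y hx hy => simp only [map_add, hx, hy]

variable {A₂ : Subalgebra R A} {R₀ : Type u} [CommRing R₀] [Algebra R R₀] (emb : A₂ →ₐ[R] R₀)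

/-- From the stage to the local ring. -/
noncomputable def toLoc : A₂ ⊗[R] M →ₐ[R] R₀ ⊗[R] M := Algebra.TensorProduct.map emb (AlgHom.id R M)

theorem toLoc_stageIncl {A₅ : Subalgebra R A} (emb₅ : A₅ →ₐ[R] R₀) (h : A₂ ≤ A₅)
    (he : ∀ a, emb₅ (Subalgebra.inclusion h a) = emb a) (x : A₂ ⊗[R] M) :
    toLoc emb x = toLoc emb₅ (stageIncl h x) := by
  induction x using TensorProduct.induction_on with
  | zero => simp
  | tmul a b => simp [toLoc, he]
  | add x y hx hy => rw [map_add, map_add, map_add, hx, hy]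

/-- Extension of a descended homomorphism to the local ring. -/
noncomputable def locExt (f : M →ₐ[R] A₂ ⊗[R] N) : R₀ ⊗[R] M →ₐ[R₀] R₀ ⊗[R] N :=
  Algebra.TensorProduct.lift (Algebra.ofId R₀ _) ((toLoc emb).comp f) (fun _ _ => Commute.all _ _)

theorem locExt_toLoc (f : M →ₐ[R] A₂ ⊗[R] N) (x : A₂ ⊗[R] M) :
    locExt emb f (toLoc emb x) = toLoc emb (stageExt f x) := by
  induction x using TensorProduct.induction_on with
  | zero => simp
  | tmul a m =>
    simp [locExt, toLoc, stageExt, Algebra.ofId_apply]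
  | add x y hx hy => simp only [map_add, hx, hy]

variable [Algebra R₀ A] [IsScalarTower R R₀ A] (hemb : ∀ a, algebraMap R₀ A (emb a) = (a : A))

include hemb in
theorem cancel_toLoc (x : A₂ ⊗[R] M) :
    Algebra.TensorProduct.cancelBaseChange R R₀ A A M ((1 : A) ⊗ₜ[R₀] toLoc emb x) = stageVal M A₂ x := by
  induction x using TensorProduct.induction_on with
  | zero => simp
  | tmul a k =>
    simp only [toLoc, Algebra.TensorProduct.map_tmul, Algebra.TensorProduct.cancelBaseChange_tmul, AlgHom.id_apply]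
    rw [Algebra.smul_def, mul_one, hemb]
    rfl
  | add x y hx hy => rw [map_add, TensorProduct.tmul_add, map_add, map_add, hx, hy]

include hemb in
theorem cancel_map_locExt (f : M →ₐ[R] A₂ ⊗[R] N) (r : A ⊗[R] M →ₐ[A] A ⊗[R] N)
    (h : ∀ m, stageVal N A₂ (f m) = r ((1 : A) ⊗ₜ m)) (x : A ⊗[R₀] (R₀ ⊗[R] M)) :
    Algebra.TensorProduct.cancelBaseChange R R₀ A A N (Algebra.TensorProduct.map (AlgHom.id A A) (locExt emb f) x) =
      r (Algebra.TensorProduct.cancelBaseChange R R₀ A A M x) := by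
  suffices H : (Algebra.TensorProduct.cancelBaseChange R R₀ A A N).toAlgHom.comp
      (Algebra.TensorProduct.map (AlgHom.id A A) (locExt emb f)) =
      r.comp (Algebra.TensorProduct.cancelBaseChange R R₀ A A M).toAlgHom from congr($H x)
  ext m
  show Algebra.TensorProduct.cancelBaseChange R R₀ A A N ((1 : A) ⊗ₜ[R₀] locExt emb f ((1 : R₀) ⊗ₜ[R] m)) =
    r (Algebra.TensorProduct.cancelBaseChange R R₀ A A M ((1 : A) ⊗ₜ[R₀] ((1 : R₀) ⊗ₜ[R] m)))
  have e : locExt emb f ((1 : R₀) ⊗ₜ[R] m) = toLoc emb (f m) := by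
    simp [locExt, ← Algebra.TensorProduct.one_def]
  rw [e, cancel_toLoc emb hemb, h, Algebra.TensorProduct.cancelBaseChange_tmul, one_smul]

/-- The functional at the local ring. -/
noncomputable def locFun (f : M →ₐ[R] A₂) : R₀ ⊗[R] M →ₐ[R₀] R₀ :=
  Algebra.TensorProduct.lift (Algebra.ofId R₀ _) (emb.comp f) (fun _ _ => Commute.all _ _)

include hemb in
theorem lift_locFun (f : M →ₐ[R] A₂) (ψ : A ⊗[R] M →ₐ[A] A) (h : ∀ m, (f m : A) = ψ ((1 : A) ⊗ₜ m))
    (x : A ⊗[R₀] (R₀ ⊗[R] M)) :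
    Algebra.TensorProduct.lift (AlgHom.id A A) ((Algebra.ofId R₀ A).comp (locFun emb f)) (fun _ _ => Commute.all _ _) x =
      ψ (Algebra.TensorProduct.cancelBaseChange R R₀ A A M x) := by
  suffices H : Algebra.TensorProduct.lift (AlgHom.id A A) ((Algebra.ofId R₀ A).comp (locFun emb f)) (fun _ _ => Commute.all _ _) =
      ψ.comp (Algebra.TensorProduct.cancelBaseChange R R₀ A A M).toAlgHom from congr($H x)
  ext m
  show Algebra.TensorProduct.lift (AlgHom.id A A) ((Algebra.ofId R₀ A).comp (locFun emb f)) (fun _ _ => Commute.all _ _)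
      ((1 : A) ⊗ₜ[R₀] ((1 : R₀) ⊗ₜ[R] m)) = ψ (Algebra.TensorProduct.cancelBaseChange R R₀ A A M ((1 : A) ⊗ₜ[R₀] ((1 : R₀) ⊗ₜ[R] m)))
  rw [Algebra.TensorProduct.lift_tmul, map_one, one_mul, AlgHom.comp_apply, Algebra.ofId_apply,
    Algebra.TensorProduct.cancelBaseChange_tmul, one_smul, ← h]
  have e : locFun emb f ((1 : R₀) ⊗ₜ[R] m) = emb (f m) := by simp [locFun]
  rw [e, hemb]

end Stage

theorem algEquiv_mem_smul {A U V : Type u} [CommRing A] [Semiring U] [Semiring V] [Algebra A U] [Algebra A V]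
    (I : Ideal A) (f : U ≃ₐ[A] V) (x : U) :
    f x ∈ I • (⊤ : Submodule A V) ↔ x ∈ I • (⊤ : Submodule A U) := by
  have hmap : (I • (⊤ : Submodule A U)).map f.toLinearEquiv.toLinearMap = I • (⊤ : Submodule A V) := by
    rw [Submodule.map_smul'', Submodule.map_top, LinearEquiv.range]
  rw [← hmap]
  constructor
  · rintro ⟨y, hy, hyx⟩
    rwa [← f.toLinearEquiv.injective hyx]
  · exact fun hx => ⟨x, hx, rfl⟩

section Local

/-- A Noetherian local ring between a finitely generated subalgebra and a local ring. -/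
theorem exists_local_model {R A : Type u} [CommRing R] [IsNoetherianRing R] [CommRing A] [IsLocalRing A] [Algebra R A]
    (A₃ : Subalgebra R A) (hA₃ : A₃.FG) :
    ∃ (R₀ : Type u) (_ : CommRing R₀) (_ : IsLocalRing R₀) (_ : IsNoetherianRing R₀) (_ : Algebra R R₀)
      (_ : Algebra R₀ A) (_ : IsScalarTower R R₀ A) (emb₃ : A₃ →ₐ[R] R₀), IsLocalHom (algebraMap R₀ A) ∧
      (∀ a, algebraMap R₀ A (emb₃ a) = (a : A)) ∧ ∀ x, algebraMap R₀ A x = 0 → x = 0 := by
  have : Algebra.FiniteType R A₃ := A₃.fg_iff_finiteType.1 hA₃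
  have : IsNoetherianRing A₃ := Algebra.FiniteType.isNoetherianRing R A₃
  let P : Ideal A₃ := (maximalIdeal A).comap A₃.val.toRingHom
  have : P.IsPrime := Ideal.IsPrime.comap _
  let R₀ := Localization.AtPrime P
  have : IsNoetherianRing R₀ := IsLocalization.isNoetherianRing P.primeCompl R₀ inferInstance
  have hunit : ∀ y : P.primeCompl, IsUnit (A₃.val y) := by
    rintro ⟨y, hy⟩
    by_contra hc
    exact hy (show A₃.val y ∈ maximalIdeal A from hc)
  let v : R₀ →ₐ[R] A := IsLocalization.liftAlgHom (M := P.primeCompl) (f := A₃.val) hunit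
  let emb₃ : A₃ →ₐ[R] R₀ := IsScalarTower.toAlgHom R A₃ R₀
  have hv : ∀ x, v (emb₃ x) = A₃.val x := fun x => by simp [v, emb₃, IsLocalization.lift_eq]
  algebraize [v.toRingHom]
  have : IsScalarTower R R₀ A := IsScalarTower.of_algebraMap_eq fun x => (v.commutes x).symm
  have hinj : ∀ x : R₀, v x = 0 → x = 0 := by
    intro x hx
    obtain ⟨⟨a, t⟩, hat⟩ := IsLocalization.surj P.primeCompl x
    have h2 : v x * A₃.val t = A₃.val a := by
      rw [← hv, ← hv, ← map_mul]; exact congrArg v hat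
    rw [hx, zero_mul] at h2
    rw [show a = 0 from Subtype.ext h2.symm, map_zero] at hat
    exact (IsLocalization.map_units R₀ t).mul_left_eq_zero.1 hat
  have hloc : IsLocalHom (algebraMap R₀ A) := by
    refine ⟨fun x hx => ?_⟩
    obtain ⟨⟨a, t⟩, hat⟩ := IsLocalization.surj P.primeCompl x
    have h2 : v x * A₃.val t = A₃.val a := by
      rw [← hv, ← hv, ← map_mul]; exact congrArg v hat
    have hua : IsUnit (A₃.val a) := h2 ▸ hx.mul (hunit t)
    have haP : a ∈ P.primeCompl := fun ha => (show A₃.val a ∈ maximalIdeal A from ha) hua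
    have h3 : IsUnit (x * algebraMap A₃ R₀ t) := hat ▸ IsLocalization.map_units R₀ ⟨a, haP⟩
    exact isUnit_of_mul_isUnit_left h3
  exact ⟨R₀, inferInstance, inferInstance, inferInstance, inferInstance, inferInstance, inferInstance, emb₃, hloc,
    fun a => hv a, hinj⟩

end Local

section Base

variable {R A : Type u} [CommRing R] [IsNoetherianRing R] [CommRing A] [IsLocalRing A] [Algebra R A]
  {J L : Type} [Finite J] [Finite L]
  (M : J → Type u) (N : L → Type u) [∀ j, CommRing (M j)] [∀ j, Algebra R (M j)]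
  [∀ j, Algebra.FinitePresentation R (M j)] [∀ l, CommRing (N l)] [∀ l, Algebra R (N l)]
  [∀ l, Algebra.FinitePresentation R (N l)]
  [∀ j, Module.Flat A (A ⊗[R] M j)] [∀ l, Module.Flat A (A ⊗[R] N l)]
  (src tgt : L → J) (r₁ : ∀ l, A ⊗[R] M (src l) →ₐ[A] A ⊗[R] N l) (r₂ : ∀ l, A ⊗[R] M (tgt l) →ₐ[A] A ⊗[R] N l)

omit [IsNoetherianRing R] in
theorem atPrime_eq_zero_of_local {R₀ : Type u} [CommRing R₀] [IsLocalRing R₀] [IsNoetherianRing R₀] [Algebra R R₀]
    [Algebra R₀ A] [IsScalarTower R R₀ A] [IsLocalHom (algebraMap R₀ A)] {A₂ : Subalgebra R A} (emb : A₂ →ₐ[R] R₀)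
    (hemb : ∀ a, algebraMap R₀ A (emb a) = (a : A))
    (f₁ : ∀ l, M (src l) →ₐ[R] A₂ ⊗[R] N l) (hf₁ : ∀ l m, stageVal (N l) A₂ (f₁ l m) = r₁ l ((1 : A) ⊗ₜ m))
    (f₂ : ∀ l, M (tgt l) →ₐ[R] A₂ ⊗[R] N l) (hf₂ : ∀ l m, stageVal (N l) A₂ (f₂ l m) = r₂ l ((1 : A) ⊗ₜ m))
    (j₀ : J) (ψ : A ⊗[R] M j₀ →ₐ[A] A) (f₄ : M j₀ →ₐ[R] A₂) (hf₄ : ∀ m, (f₄ m : A) = ψ ((1 : A) ⊗ₜ m))
    (hfib : ∀ b : ∀ j, A ⊗[R] M j,
      (∀ l, r₁ l (b (src l)) - r₂ l (b (tgt l)) ∈ maximalIdeal A • (⊤ : Submodule A (A ⊗[R] N l))) →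
      ψ (b j₀) ∈ maximalIdeal A → ∀ j, b j ∈ maximalIdeal A • (⊤ : Submodule A (A ⊗[R] M j)))
    (σ : ∀ j, A₂ ⊗[R] M j)
    (hσ : ∀ l, toLoc emb (stageExt (f₁ l) (σ (src l))) = toLoc emb (stageExt (f₂ l) (σ (tgt l))))
    (hψ : locFun emb f₄ (toLoc emb (σ j₀)) = 0)
    (j : J) (q : Ideal (A ⊗[R] M j)) [q.IsPrime] (hq : (maximalIdeal A).map (algebraMap A (A ⊗[R] M j)) ≤ q) :
    algebraMap (A ⊗[R] M j) (Localization.AtPrime q) (stageVal (M j) A₂ (σ j)) = 0 := by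
  have : ∀ j, Module.Flat A (A ⊗[R₀] (R₀ ⊗[R] M j)) := fun j =>
    Module.Flat.of_linearEquiv (Algebra.TensorProduct.cancelBaseChange R R₀ A A (M j)).toLinearEquiv
  have : ∀ l, Module.Flat A (A ⊗[R₀] (R₀ ⊗[R] N l)) := fun l =>
    Module.Flat.of_linearEquiv (Algebra.TensorProduct.cancelBaseChange R R₀ A A (N l)).toLinearEquiv
  let q' : Ideal (A ⊗[R₀] (R₀ ⊗[R] M j)) :=
    q.comap (Algebra.TensorProduct.cancelBaseChange R R₀ A A (M j)).toRingEquiv.toRingHom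
  have : q'.IsPrime := Ideal.IsPrime.comap _
  have hq' : (maximalIdeal A).map (algebraMap A (A ⊗[R₀] (R₀ ⊗[R] M j))) ≤ q' := by
    rw [Ideal.map_le_iff_le_comap]
    intro a ha
    show Algebra.TensorProduct.cancelBaseChange R R₀ A A (M j) (algebraMap A _ a) ∈ q
    rw [AlgEquiv.commutes]
    exact hq (Ideal.mem_map_of_mem _ ha)
  have main := atPrime_eq_zero_of_model (A := A) (R := R₀) (fun j => R₀ ⊗[R] M j) (fun l => R₀ ⊗[R] N l) src tgt
    (fun l => locExt emb (f₁ l)) (fun l => locExt emb (f₂ l)) j₀ (locFun emb f₄)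
    (fun b hb hb0 j' => by
      refine (algEquiv_mem_smul _ (Algebra.TensorProduct.cancelBaseChange R R₀ A A (M j')) _).1
        (hfib (fun k => Algebra.TensorProduct.cancelBaseChange R R₀ A A (M k) (b k)) (fun l => ?_) ?_ j')
      · rw [← cancel_map_locExt emb hemb (f₁ l) (r₁ l) (hf₁ l), ← cancel_map_locExt emb hemb (f₂ l) (r₂ l) (hf₂ l),
          ← map_sub]
        exact (algEquiv_mem_smul _ (Algebra.TensorProduct.cancelBaseChange R R₀ A A (N l)) _).2 (hb l)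
      · rw [← lift_locFun emb hemb f₄ ψ hf₄]; exact hb0)
    (fun k => toLoc emb (σ k)) (fun l => by rw [locExt_toLoc, locExt_toLoc, hσ l]) hψ j q' hq'
  have hfin := congrArg (Localization.localRingHom q' q
    (Algebra.TensorProduct.cancelBaseChange R R₀ A A (M j)).toRingEquiv.toRingHom rfl) main
  rw [map_zero, Localization.localRingHom_to_map] at hfin
  rw [← cancel_toLoc emb hemb]
  exact hfin

theorem atPrime_eq_zero_of_base (j₀ : J) (ψ : A ⊗[R] M j₀ →ₐ[A] A)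
    (hfib : ∀ b : ∀ j, A ⊗[R] M j,
      (∀ l, r₁ l (b (src l)) - r₂ l (b (tgt l)) ∈ maximalIdeal A • (⊤ : Submodule A (A ⊗[R] N l))) →
      ψ (b j₀) ∈ maximalIdeal A → ∀ j, b j ∈ maximalIdeal A • (⊤ : Submodule A (A ⊗[R] M j)))
    (s : ∀ j, A ⊗[R] M j) (hs : ∀ l, r₁ l (s (src l)) = r₂ l (s (tgt l))) (hψ : ψ (s j₀) = 0)
    (j : J) (q : Ideal (A ⊗[R] M j)) [q.IsPrime] (hq : (maximalIdeal A).map (algebraMap A (A ⊗[R] M j)) ≤ q) :
    algebraMap (A ⊗[R] M j) (Localization.AtPrime q) (s j) = 0 := by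
  classical
  choose T₁ hT₁ f₁ hf₁ using fun l => exists_stage_hom (((r₁ l).restrictScalars R).comp
    (Algebra.TensorProduct.includeRight : M (src l) →ₐ[R] A ⊗[R] M (src l)))
  choose T₂ hT₂ f₂ hf₂ using fun l => exists_stage_hom (((r₂ l).restrictScalars R).comp
    (Algebra.TensorProduct.includeRight : M (tgt l) →ₐ[R] A ⊗[R] M (tgt l)))
  choose T₃ hT₃ hσ using fun j => exists_stage_lift (ι := Unit) {()} (fun _ => s j)
  choose σ₀ hσ₀ using fun j => hσ j () (Finset.mem_singleton_self _)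
  obtain ⟨T₄, hT₄, f₄, hf₄⟩ := exists_stage_hom (N := R)
    ((Algebra.TensorProduct.rid R R A).symm.toAlgHom.comp ((ψ.restrictScalars R).comp
      (Algebra.TensorProduct.includeRight : M j₀ →ₐ[R] A ⊗[R] M j₀)))
  obtain ⟨U₁, hU₁, hle₁⟩ := exists_fg_ge T₁ hT₁
  obtain ⟨U₂, hU₂, hle₂⟩ := exists_fg_ge T₂ hT₂
  obtain ⟨U₃, hU₃, hle₃⟩ := exists_fg_ge T₃ hT₃
  obtain ⟨A₂, hA₂, hA₂₁, hA₂₂, hA₂₃, hA₂₄⟩ : ∃ A₂ : Subalgebra R A, A₂.FG ∧ (∀ l, T₁ l ≤ A₂) ∧ (∀ l, T₂ l ≤ A₂) ∧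
      (∀ j, T₃ j ≤ A₂) ∧ T₄ ≤ A₂ :=
    ⟨U₁ ⊔ U₂ ⊔ U₃ ⊔ T₄, ((hU₁.sup hU₂).sup hU₃).sup hT₄,
      fun l => (hle₁ l).trans (le_sup_left.trans (le_sup_left.trans le_sup_left)),
      fun l => (hle₂ l).trans (le_sup_right.trans (le_sup_left.trans le_sup_left)),
      fun j => (hle₃ j).trans (le_sup_right.trans le_sup_left), le_sup_right⟩
  obtain ⟨g₁, hg₁⟩ : ∃ g : ∀ l, M (src l) →ₐ[R] A₂ ⊗[R] N l, ∀ l m, stageVal (N l) A₂ (g l m) = r₁ l ((1 : A) ⊗ₜ m) :=
    ⟨fun l => (stageIncl (hA₂₁ l)).comp (f₁ l), fun l m => (stageVal_incl _ _).trans congr($(hf₁ l) m)⟩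
  obtain ⟨g₂, hg₂⟩ : ∃ g : ∀ l, M (tgt l) →ₐ[R] A₂ ⊗[R] N l, ∀ l m, stageVal (N l) A₂ (g l m) = r₂ l ((1 : A) ⊗ₜ m) :=
    ⟨fun l => (stageIncl (hA₂₂ l)).comp (f₂ l), fun l m => (stageVal_incl _ _).trans congr($(hf₂ l) m)⟩
  obtain ⟨σ, hσA⟩ : ∃ σ : ∀ j, A₂ ⊗[R] M j, ∀ j, stageVal (M j) A₂ (σ j) = s j :=
    ⟨fun j => stageIncl (N := M j) (hA₂₃ j) (σ₀ j), fun j => (stageVal_incl _ _).trans (hσ₀ j)⟩
  obtain ⟨g₄, hg₄⟩ : ∃ g : M j₀ →ₐ[R] A₂, ∀ m, (g m : A) = ψ ((1 : A) ⊗ₜ m) := by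
    refine ⟨(Subalgebra.inclusion hA₂₄).comp ((Algebra.TensorProduct.rid R R T₄).toAlgHom.comp f₄), fun m => ?_⟩
    have h : Algebra.TensorProduct.rid R R A (stageVal R T₄ (f₄ m)) = ψ ((1 : A) ⊗ₜ m) := by
      rw [show stageVal R T₄ (f₄ m) = _ from congr($hf₄ m)]
      simp
    rw [← h]
    show ((Algebra.TensorProduct.rid R R T₄ (f₄ m) : T₄) : A) = _
    generalize f₄ m = y
    induction y using TensorProduct.induction_on with
    | zero => simp
    | tmul a b => simp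
    | add x y hx hy => simp only [map_add, Subalgebra.coe_add, hx, hy]
  choose T₅ hle₅ hT₅ h₅ using fun l => exists_stage_eq (ι := Unit) {()} hA₂
    (fun _ => stageExt (g₁ l) (σ (src l))) (fun _ => stageExt (g₂ l) (σ (tgt l)))
    (fun _ _ => by rw [stageVal_stageExt _ _ (hg₁ l), stageVal_stageExt _ _ (hg₂ l), hσA, hσA, hs])
  obtain ⟨U₅, hU₅, hle₅'⟩ := exists_fg_ge T₅ hT₅
  obtain ⟨A₃, hA₃, hA₂₅, hU₅'⟩ : ∃ A₃ : Subalgebra R A, A₃.FG ∧ A₂ ≤ A₃ ∧ U₅ ≤ A₃ :=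
    ⟨A₂ ⊔ U₅, hA₂.sup hU₅, le_sup_left, le_sup_right⟩
  obtain ⟨R₀, _, _, _, _, _, _, emb₃, _, hv, hinj⟩ := exists_local_model A₃ hA₃
  obtain ⟨emb, hembdef⟩ : ∃ emb : A₂ →ₐ[R] R₀, emb = emb₃.comp (Subalgebra.inclusion hA₂₅) := ⟨_, rfl⟩
  have hemb : ∀ a, algebraMap R₀ A (emb a) = (a : A) := fun a => by rw [hembdef]; exact hv _
  have hσ5 : ∀ l, toLoc emb (stageExt (g₁ l) (σ (src l))) = toLoc emb (stageExt (g₂ l) (σ (tgt l))) := by
    intro l
    have hfac : ∀ x : A₂ ⊗[R] N l, toLoc emb x =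
        toLoc (emb₃.comp (Subalgebra.inclusion ((hle₅' l).trans hU₅'))) (stageIncl (hle₅ l) x) :=
      fun x => toLoc_stageIncl emb _ (hle₅ l) (fun a => by rw [hembdef]; exact congrArg emb₃ (Subtype.ext rfl)) x
    exact ((hfac _).trans (congrArg _ (h₅ l () (Finset.mem_singleton_self _)))).trans (hfac _).symm
  have hψ' : locFun emb g₄ (toLoc emb (σ j₀)) = 0 := by
    apply hinj
    have h1 := lift_locFun emb hemb g₄ ψ hg₄ ((1 : A) ⊗ₜ[R₀] toLoc emb (σ j₀))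
    rw [cancel_toLoc emb hemb, hσA, hψ, Algebra.TensorProduct.lift_tmul, map_one, one_mul] at h1
    exact h1
  rw [← hσA]
  exact atPrime_eq_zero_of_local M N src tgt r₁ r₂ emb hemb g₁ hg₁ g₂ hg₂ j₀ ψ g₄ hg₄ hfib σ hσ5 hψ' j q hq

end Base

theorem atPrime_eq_zero_of_models {R A : Type u} [CommRing R] [IsNoetherianRing R] [CommRing A] [IsLocalRing A] [Algebra R A]
    {J L : Type} [Finite J] [Finite L] (M : J → Type u) (N : L → Type u) [∀ j, CommRing (M j)] [∀ j, Algebra R (M j)]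
    [∀ j, Algebra.FinitePresentation R (M j)] [∀ l, CommRing (N l)] [∀ l, Algebra R (N l)]
    [∀ l, Algebra.FinitePresentation R (N l)]
    (B : J → Type u) (C : L → Type u) [∀ j, CommRing (B j)] [∀ j, Algebra A (B j)] [∀ j, Module.Flat A (B j)]
    [∀ l, CommRing (C l)] [∀ l, Algebra A (C l)] [∀ l, Module.Flat A (C l)]
    (eB : ∀ j, A ⊗[R] M j ≃ₐ[A] B j) (eC : ∀ l, A ⊗[R] N l ≃ₐ[A] C l)
    (src tgt : L → J) (r₁ : ∀ l, B (src l) →ₐ[A] C l) (r₂ : ∀ l, B (tgt l) →ₐ[A] C l) (j₀ : J) (ψ : B j₀ →ₐ[A] A)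
    (hfib : ∀ b : ∀ j, B j, (∀ l, r₁ l (b (src l)) - r₂ l (b (tgt l)) ∈ maximalIdeal A • (⊤ : Submodule A (C l))) →
      ψ (b j₀) ∈ maximalIdeal A → ∀ j, b j ∈ maximalIdeal A • (⊤ : Submodule A (B j)))
    (s : ∀ j, B j) (hs : ∀ l, r₁ l (s (src l)) = r₂ l (s (tgt l))) (hψ : ψ (s j₀) = 0)
    (j : J) (q : Ideal (B j)) [q.IsPrime] (hq : (maximalIdeal A).map (algebraMap A (B j)) ≤ q) :
    algebraMap (B j) (Localization.AtPrime q) (s j) = 0 := by
  classical
  have : ∀ j, Module.Flat A (A ⊗[R] M j) := fun j => Module.Flat.of_linearEquiv (eB j).toLinearEquiv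
  have : ∀ l, Module.Flat A (A ⊗[R] N l) := fun l => Module.Flat.of_linearEquiv (eC l).toLinearEquiv
  let q' : Ideal (A ⊗[R] M j) := q.comap (eB j).toRingEquiv.toRingHom
  have : q'.IsPrime := Ideal.IsPrime.comap _
  have main := atPrime_eq_zero_of_base M N src tgt
    (fun l => (eC l).symm.toAlgHom.comp ((r₁ l).comp (eB (src l)).toAlgHom))
    (fun l => (eC l).symm.toAlgHom.comp ((r₂ l).comp (eB (tgt l)).toAlgHom))
    j₀ (ψ.comp (eB j₀).toAlgHom)
    (fun b hb hb0 k => by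
      have h := hfib (fun j => eB j (b j)) (fun l => by
        have := (algEquiv_mem_smul _ (eC l) _).2 (hb l)
        simpa only [map_sub, AlgHom.comp_apply, AlgEquiv.toAlgHom_apply, AlgEquiv.apply_symm_apply] using this) hb0 k
      have := (algEquiv_mem_smul _ (eB k).symm _).2 h
      simpa only [AlgEquiv.symm_apply_apply] using this)
    (fun j => (eB j).symm (s j)) (fun l => by simp [hs]) (by simp [hψ]) j q' (by
      rw [Ideal.map_le_iff_le_comap]
      intro a ha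
      show eB j (algebraMap A _ a) ∈ q
      rw [AlgEquiv.commutes]
      exact hq (Ideal.mem_map_of_mem _ ha))
  have hfin := congrArg (Localization.localRingHom q' q (eB j).toRingEquiv.toRingHom rfl) main
  rw [map_zero, Localization.localRingHom_to_map] at hfin
  have h1 : (eB j).toRingEquiv.toRingHom ((eB j).symm (s j)) = s j := (eB j).apply_symm_apply (s j)
  rw [h1] at hfin
  exact hfin


/-- **Rigidity of sections**, affine form, over an arbitrary local ring. -/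
theorem algebraMap_atPrime_eq_zero_of_section {A : Type u} [CommRing A] [IsLocalRing A] {J L : Type} [Finite J] [Finite L]
    (B : J → Type u) (C : L → Type u) [∀ j, CommRing (B j)] [∀ j, Algebra A (B j)]
    [∀ j, Algebra.FinitePresentation A (B j)] [∀ j, Module.Flat A (B j)]
    [∀ l, CommRing (C l)] [∀ l, Algebra A (C l)] [∀ l, Algebra.FinitePresentation A (C l)] [∀ l, Module.Flat A (C l)]
    (src tgt : L → J) (r₁ : ∀ l, B (src l) →ₐ[A] C l) (r₂ : ∀ l, B (tgt l) →ₐ[A] C l) (j₀ : J) (ψ : B j₀ →ₐ[A] A)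
    (hfib : ∀ b : ∀ j, B j, (∀ l, r₁ l (b (src l)) - r₂ l (b (tgt l)) ∈ maximalIdeal A • (⊤ : Submodule A (C l))) →
      ψ (b j₀) ∈ maximalIdeal A → ∀ j, b j ∈ maximalIdeal A • (⊤ : Submodule A (B j)))
    (s : ∀ j, B j) (hs : ∀ l, r₁ l (s (src l)) = r₂ l (s (tgt l))) (hψ : ψ (s j₀) = 0)
    (j : J) (q : Ideal (B j)) [q.IsPrime] (hq : (maximalIdeal A).map (algebraMap A (B j)) ≤ q) :
    algebraMap (B j) (Localization.AtPrime q) (s j) = 0 := by
  classical
  let PB := fun j => Algebra.Presentation.ofFinitePresentation A (B j)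
  let PC := fun l => Algebra.Presentation.ofFinitePresentation A (C l)
  let R : Subalgebra ℤ A := Algebra.adjoin ℤ ((⋃ j, (PB j).coeffs) ∪ ⋃ l, (PC l).coeffs)
  have : Algebra.FiniteType ℤ R := .adjoin_of_finite ((Set.finite_iUnion fun j => Algebra.Presentation.finite_coeffs).union
    (Set.finite_iUnion fun l => Algebra.Presentation.finite_coeffs))
  have : IsNoetherianRing R := Algebra.FiniteType.isNoetherianRing ℤ R
  have : ∀ j, (PB j).HasCoeffs R := fun j => ⟨fun x hx =>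
    ⟨⟨x, Algebra.subset_adjoin (Or.inl (Set.mem_iUnion_of_mem j hx))⟩, rfl⟩⟩
  have : ∀ l, (PC l).HasCoeffs R := fun l => ⟨fun x hx =>
    ⟨⟨x, Algebra.subset_adjoin (Or.inr (Set.mem_iUnion_of_mem l hx))⟩, rfl⟩⟩
  exact atPrime_eq_zero_of_models (fun j => (PB j).ModelOfHasCoeffs R) (fun l => (PC l).ModelOfHasCoeffs R) B C
    (fun j => (PB j).tensorModelOfHasCoeffsEquiv R) (fun l => (PC l).tensorModelOfHasCoeffsEquiv R)
    src tgt r₁ r₂ j₀ ψ hfib s hs hψ j q hq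

end Groth.Agent.AbSchLib
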