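import Groth.Agent.AbSchLib.Rigidity
import Groth.Agent.AbSchLib.AlgRigidModel
import Mathlib.AlgebraicGeometry.Morphisms.FinitePresentation
import Mathlib.AlgebraicGeometry.Morphisms.Affine
import Mathlib.AlgebraicGeometry.Sites.Fpqc

/-!
# The rigidity lemma for proper flat morphisms over an arbitrary base
-/

universe u

open CategoryTheory Limits AlgebraicGeometry Opposite TopologicalSpace

namespace Groth.Agent.AbSchLib

section Local

variable {A : CommRingCat.{u}} [IsLocalRing A] {X : Scheme.{u}} (g : X ⟶ Spec A) [Flat g]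
  [LocallyOfFinitePresentation g] [QuasiCompact g] [IsSeparated g]
  (e : Spec A ⟶ X) (he : e ≫ g = 𝟙 _) (hk : Function.Surjective (pullback.snd g (closedPt A)).appTop.hom)

include he hk in
theorem mem_maximalIdeal_map_of_compatible {n : ℕ} (U : Fin n → X.affineOpens) (hcov : ∀ y : X, ∃ i, y ∈ (U i).1)
    (b : ∀ i, Γ(X, (U i).1)) (hb : ∀ i i', (pullback.fst g (closedPt A)).app ((U i).1 ⊓ (U i').1)
        (X.presheaf.map (homOfLE inf_le_left).op (b i) - X.presheaf.map (homOfLE inf_le_right).op (b i')) = 0)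
    (i₀ : Fin n) (he0 : (⊤ : (Spec A).Opens) ≤ e ⁻¹ᵁ (U i₀).1)
    (hψ : (e.appLE (U i₀).1 ⊤ he0 ≫ (Scheme.ΓSpecIso A).hom) (b i₀) ∈ IsLocalRing.maximalIdeal A) (i : Fin n) :
    b i ∈ (IsLocalRing.maximalIdeal A).map (strMap g (U i).1).hom := by
  set p := pullback.fst g (closedPt A)
  set gk := pullback.snd g (closedPt A)
  let V : Fin n → (pullback g (closedPt A)).Opens := fun i => p ⁻¹ᵁ (U i).1
  have hcov' : (⊤ : (pullback g (closedPt A)).Opens) ≤ iSup V := fun y _ =>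
    Opens.mem_iSup.2 (hcov (p y))
  have hcompat : TopCat.Presheaf.IsCompatible (pullback g (closedPt A)).presheaf V (fun i => p.app (U i).1 (b i)) := by
    intro i i'
    have h := hb i i'
    rw [map_sub, sub_eq_zero] at h
    have n1 := congr($(p.naturality (homOfLE (inf_le_left : (U i).1 ⊓ (U i').1 ≤ (U i).1)).op) (b i))
    have n2 := congr($(p.naturality (homOfLE (inf_le_right : (U i).1 ⊓ (U i').1 ≤ (U i').1)).op) (b i'))
    exact n1.symm.trans (h.trans n2)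
  obtain ⟨τ, hτ, -⟩ := TopCat.Sheaf.existsUnique_gluing' (pullback g (closedPt A)).sheaf V ⊤
    (fun i => homOfLE le_top) hcov' _ hcompat
  obtain ⟨c, hc⟩ := hk τ
  let ek : Spec (CommRingCat.of (IsLocalRing.ResidueField A)) ⟶ pullback g (closedPt A) :=
    pullback.lift (closedPt A ≫ e) (𝟙 _) (by simp [he])
  have h1 : ek.appTop τ = c := by
    have : gk.appTop ≫ ek.appTop = 𝟙 _ := by
      have h := Scheme.Hom.comp_appTop ek gk
      rw [show ek ≫ gk = 𝟙 _ from pullback.lift_snd _ _ _, Scheme.Hom.id_appTop] at h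
      exact h.symm
    rw [← hc, ← CommRingCat.comp_apply, this]
    rfl
  have h2 : ek.appTop τ = 0 := by
    have hle : (⊤ : (Spec (CommRingCat.of (IsLocalRing.ResidueField A))).Opens) ≤ ek ⁻¹ᵁ V i₀ := by
      intro y _
      have hy : (ek ≫ p) y ∈ (U i₀).1 := by
        simp only [ek, p, pullback.lift_fst, Scheme.Hom.comp_apply]
        exact he0 (Set.mem_univ _)
      exact hy
    have h21 : ek.appTop = (pullback g (closedPt A)).presheaf.map (homOfLE (le_top : V i₀ ≤ ⊤)).op ≫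
        ek.appLE _ ⊤ hle := by
      rw [Scheme.Hom.map_appLE, Scheme.Hom.appTop, Scheme.Hom.app_eq_appLE]; rfl
    have hτ' : (pullback g (closedPt A)).presheaf.map (homOfLE (le_top : V i₀ ≤ ⊤)).op τ = p.app (U i₀).1 (b i₀) :=
      hτ i₀
    rw [h21]
    refine (congrArg (ek.appLE (V i₀) ⊤ hle) hτ').trans ?_
    rw [← CommRingCat.comp_apply, Scheme.Hom.app_eq_appLE, Scheme.Hom.appLE_comp_appLE]
    have h22 : (ek ≫ p).appLE (U i₀).1 ⊤ hle = (e.appLE (U i₀).1 ⊤ he0 ≫ (Scheme.ΓSpecIso A).hom) ≫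
        (Scheme.ΓSpecIso A).inv ≫ (closedPt A).appTop := by
      simp only [Category.assoc, Iso.hom_inv_id_assoc]
      rw [Scheme.Hom.appTop, Scheme.Hom.app_eq_appLE]
      erw [Scheme.Hom.appLE_comp_appLE]
      congr 1
      exact pullback.lift_fst _ _ _
    rw [h22, appLE_closedPt_inv, CommRingCat.comp_apply, CommRingCat.comp_apply]
    show (Scheme.ΓSpecIso (CommRingCat.of (IsLocalRing.ResidueField A))).inv (IsLocalRing.residue A _) = 0
    rw [(IsLocalRing.residue_eq_zero_iff _).2 hψ, map_zero]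
  rw [← hc, ← h1, h2, map_zero] at hτ
  rw [← fibre_app_eq_zero_iff g (U i).2]
  have := hτ i
  erw [map_zero] at this
  exact this.symm

include he hk in
/-- A function vanishing along a section has zero germ over the closed point; no Noetherian hypothesis. -/
theorem germ_eq_zero_of_section_general (s : Γ(X, ⊤)) (hs : e.appTop s = 0) (x : X)
    (hx : g x = IsLocalRing.closedPoint A) : X.presheaf.germ ⊤ x trivial s = 0 := by
  classical
  have : CompactSpace X := QuasiCompact.compactSpace_of_compactSpace g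
  have hbasis : ∀ y : X, ∃ W : X.affineOpens, y ∈ W.1 := fun y => by
    obtain ⟨_, ⟨W, hW, rfl⟩, hy, -⟩ :=
      X.isBasis_affineOpens.exists_subset_of_mem_open (Set.mem_univ y) isOpen_univ
    exact ⟨⟨W, hW⟩, hy⟩
  choose Wy hWy using hbasis
  obtain ⟨t, ht⟩ := isCompact_univ.elim_finite_subcover (fun y : X => ((Wy y).1 : Set X))
    (fun y => (Wy y).1.isOpen) (fun y _ => Set.mem_iUnion.2 ⟨y, hWy y⟩)
  let t' : Finset X := t ∪ {x, e (IsLocalRing.closedPoint A)}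
  let U : Fin t'.card → X.affineOpens := fun i => Wy (t'.equivFin.symm i).1
  have hU : ∀ y ∈ t', ∃ i, U i = Wy y := fun y hy => ⟨t'.equivFin ⟨y, hy⟩, by simp [U]⟩
  have hcov : ∀ y : X, ∃ i, y ∈ (U i).1 := fun y => by
    obtain ⟨z, hz, hyz⟩ := Set.mem_iUnion₂.1 (ht (Set.mem_univ y))
    obtain ⟨i, hi⟩ := hU z (Finset.mem_union_left _ hz)
    exact ⟨i, hi ▸ hyz⟩
  obtain ⟨i₀, hi₀⟩ := hU (e (IsLocalRing.closedPoint A)) (Finset.mem_union_right _ (by simp))
  obtain ⟨j, hj⟩ := hU x (Finset.mem_union_right _ (by simp))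
  have he0 : (⊤ : (Spec A).Opens) ≤ e ⁻¹ᵁ (U i₀).1 :=
    ((IsLocalRing.closed_point_mem_iff (U := e ⁻¹ᵁ (U i₀).1)).1 (show e _ ∈ (U i₀).1 from hi₀ ▸ hWy _)).ge
  have hxj : x ∈ (U j).1 := hj ▸ hWy x
  have hinf : ∀ i i', IsAffineOpen ((U i).1 ⊓ (U i').1) := fun i i' =>
    (isAffineHom_diagonal_iff (f := g)).mp inferInstance ⊤ (isAffineOpen_top _) _ (by simp) _ (by simp)
      (U i).2 (U i').2
  let W : Fin t'.card × Fin t'.card → X.Opens := fun l => (U l.1).1 ⊓ (U l.2).1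
  let _ : ∀ i, Algebra A Γ(X, (U i).1) := fun i => (strMap g (U i).1).hom.toAlgebra
  let _ : ∀ l, Algebra A Γ(X, W l) := fun l => (strMap g (W l)).hom.toAlgebra
  have hfp : ∀ {O : X.Opens}, IsAffineOpen O → (strMap g O).hom.FinitePresentation := fun hO =>
    (g.finitePresentation_appLE (isAffineOpen_top _) hO _).comp
      (RingHom.FinitePresentation.of_bijective (ConcreteCategory.bijective_of_isIso (Scheme.ΓSpecIso A).inv))
  have hflat : ∀ {O : X.Opens}, IsAffineOpen O → (strMap g O).hom.Flat := fun hO =>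
    RingHom.Flat.comp (RingHom.Flat.of_bijective (ConcreteCategory.bijective_of_isIso (Scheme.ΓSpecIso A).inv))
      (g.flat_appLE (isAffineOpen_top _) hO _)
  have : ∀ i, Algebra.FinitePresentation A Γ(X, (U i).1) := fun i => hfp (U i).2
  have : ∀ l, Algebra.FinitePresentation A Γ(X, W l) := fun l => hfp (hinf l.1 l.2)
  have : ∀ i, Module.Flat A Γ(X, (U i).1) := fun i => hflat (U i).2
  have : ∀ l, Module.Flat A Γ(X, W l) := fun l => hflat (hinf l.1 l.2)
  let r₁ : ∀ l : Fin t'.card × Fin t'.card, Γ(X, (U l.1).1) →ₐ[A] Γ(X, W l) := fun l =>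
    { (X.presheaf.map (homOfLE (inf_le_left : W l ≤ (U l.1).1)).op).hom with
      commutes' := fun a => congr($(strMap_res g (inf_le_left : W l ≤ (U l.1).1)) a) }
  let r₂ : ∀ l : Fin t'.card × Fin t'.card, Γ(X, (U l.2).1) →ₐ[A] Γ(X, W l) := fun l =>
    { (X.presheaf.map (homOfLE (inf_le_right : W l ≤ (U l.2).1)).op).hom with
      commutes' := fun a => congr($(strMap_res g (inf_le_right : W l ≤ (U l.2).1)) a) }
  have hψc : strMap g (U i₀).1 ≫ e.appLE (U i₀).1 ⊤ he0 ≫ (Scheme.ΓSpecIso A).hom = 𝟙 A := by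
    simp only [Category.assoc, Scheme.Hom.appLE_comp_appLE_assoc, he]
    simp [Scheme.Hom.appLE]
  let ψ : Γ(X, (U i₀).1) →ₐ[A] A :=
    { (e.appLE (U i₀).1 ⊤ he0 ≫ (Scheme.ΓSpecIso A).hom).hom with
      commutes' := fun a => congr($hψc a) }
  let s' : ∀ i, Γ(X, (U i).1) := fun i => X.presheaf.map (homOfLE le_top).op s
  have hfib : ∀ b : ∀ i, Γ(X, (U i).1),
      (∀ l, r₁ l (b l.1) - r₂ l (b l.2) ∈ IsLocalRing.maximalIdeal A • (⊤ : Submodule A Γ(X, W l))) →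
      ψ (b i₀) ∈ IsLocalRing.maximalIdeal A → ∀ i, b i ∈ IsLocalRing.maximalIdeal A • (⊤ : Submodule A Γ(X, (U i).1)) := by
    intro b hb hb0 i
    rw [Ideal.smul_top_eq_map]
    refine mem_maximalIdeal_map_of_compatible g e he hk U hcov b (fun i i' => ?_) i₀ he0 hb0 i
    have h := hb (i, i')
    rw [Ideal.smul_top_eq_map, Submodule.restrictScalars_mem] at h
    exact (fibre_app_eq_zero_iff g (hinf i i') _).2 h
  have hs1 : ∀ l, r₁ l (s' l.1) = r₂ l (s' l.2) := fun l => by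
    show X.presheaf.map _ (X.presheaf.map _ s) = X.presheaf.map _ (X.presheaf.map _ s)
    rw [← CommRingCat.comp_apply, ← CommRingCat.comp_apply, ← Functor.map_comp, ← Functor.map_comp]
    rfl
  have hψs : ψ (s' i₀) = 0 := by
    show (Scheme.ΓSpecIso A).hom (e.appLE (U i₀).1 ⊤ he0 (X.presheaf.map (homOfLE le_top).op s)) = 0
    have : X.presheaf.map (homOfLE le_top).op ≫ e.appLE (U i₀).1 ⊤ he0 = e.appTop := by
      rw [Scheme.Hom.map_appLE, Scheme.Hom.appTop, Scheme.Hom.app_eq_appLE]; rfl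
    rw [← CommRingCat.comp_apply (X.presheaf.map (homOfLE le_top).op), this, hs, map_zero]
  set q := ((U j).2.primeIdealOf ⟨x, hxj⟩).asIdeal
  let _ := (X.presheaf.germ (U j).1 x hxj).hom.toAlgebra
  have := (U j).2.isLocalization_stalk ⟨x, hxj⟩
  have hq : (IsLocalRing.maximalIdeal A).map (algebraMap A Γ(X, (U j).1)) ≤ q := by
    rw [Ideal.map_le_iff_le_comap]
    intro a ha
    by_contra hna
    have hu : IsUnit (X.presheaf.germ (U j).1 x hxj (strMap g (U j).1 a)) :=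
      IsLocalization.map_units (X.presheaf.stalk x) (⟨_, hna⟩ : q.primeCompl)
    rw [CommRingCat.comp_apply, ← Scheme.mem_basicOpen _ _ x hxj, Scheme.basicOpen_appLE] at hu
    obtain ⟨-, hx'⟩ := hu
    have hx'' : g x ∈ (Spec A).basicOpen ((Scheme.ΓSpecIso A).inv a) := hx'
    rw [hx, basicOpen_eq_of_affine] at hx''
    exact hx'' ha
  have main := algebraMap_atPrime_eq_zero_of_section (A := A) (fun i => Γ(X, (U i).1)) (fun l => Γ(X, W l))
    (fun l => l.1) (fun l => l.2) r₁ r₂ i₀ ψ hfib s' hs1 hψs j q hq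
  obtain ⟨c, hc⟩ := (IsLocalization.map_eq_zero_iff q.primeCompl _ _).1 main
  have h0 : X.presheaf.germ (U j).1 x hxj (s' j) = 0 :=
    (IsLocalization.map_eq_zero_iff q.primeCompl (X.presheaf.stalk x) _).2 ⟨c, hc⟩
  rwa [TopCat.Presheaf.germ_res_apply] at h0

end Local

variable {T X Y : Scheme.{u}}

/-- The germ at a point over `t` of a function killed by the section is zero. -/
theorem germ_eq_zero_of_sectionG (g : X ⟶ T) [Flat g] [LocallyOfFinitePresentation g]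
    [UniversallyClosed g] [IsSeparated g] [GeometricallyConnected g] [GeometricallyReduced g]
    (e : T ⟶ X) (he : e ≫ g = 𝟙 T) (V : T.Opens) (hle : V ≤ e ⁻¹ᵁ (g ⁻¹ᵁ V)) (s : Γ(X, g ⁻¹ᵁ V))
    (hs : e.appLE (g ⁻¹ᵁ V) V hle s = 0) (x : X) (hx : g x ∈ V) :
    X.presheaf.germ (g ⁻¹ᵁ V) x hx s = 0 := by
  set t := g x
  let j := T.fromSpecStalk t
  have : Flat j := flat_fromSpecStalk t
  let p := pullback.fst g j
  let g' := pullback.snd g j
  let e' : Spec (T.presheaf.stalk t) ⟶ pullback g j := pullback.lift (j ≫ e) (𝟙 _) (by simp [he])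
  have he' : e' ≫ g' = 𝟙 _ := pullback.lift_snd _ _ _
  have hjV : ∀ y, j y ∈ V := by
    intro y
    have hy : j y ∈ Set.range j := ⟨y, rfl⟩
    rw [Scheme.range_fromSpecStalk] at hy
    exact hy.mem_open V.isOpen hx
  have hp : (⊤ : (pullback g j).Opens) ≤ p ⁻¹ᵁ (g ⁻¹ᵁ V) := by
    intro y _
    have h1 : (p ≫ g) y = (g' ≫ j) y := by simp only [p, g', pullback.condition]
    have h2 : j (g' y) ∈ V := hjV _
    rw [← Scheme.Hom.comp_apply, ← h1] at h2
    exact h2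
  let s' := p.appLE (g ⁻¹ᵁ V) ⊤ hp s
  have hs' : e'.appTop s' = 0 := by
    have hj : (⊤ : (Spec (T.presheaf.stalk t)).Opens) ≤ j ⁻¹ᵁ V := fun y _ => hjV y
    have : p.appLE (g ⁻¹ᵁ V) ⊤ hp ≫ e'.appTop = e.appLE (g ⁻¹ᵁ V) V hle ≫ j.appLE V ⊤ hj := by
      rw [Scheme.Hom.appTop, Scheme.Hom.app_eq_appLE]
      erw [Scheme.Hom.appLE_comp_appLE, Scheme.Hom.appLE_comp_appLE]
      congr 1
      exact pullback.lift_fst _ _ _
    simp only [s', ← CommRingCat.comp_apply, this]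
    rw [CommRingCat.comp_apply, hs, map_zero]
  obtain ⟨x', hx'1, hx'2⟩ := Scheme.Pullback.exists_preimage_pullback (f := g) (g := j) x
    (IsLocalRing.closedPoint _) (by simp [j, t])
  have hk : Function.Surjective (pullback.snd g' (closedPt (T.presheaf.stalk t))).appTop.hom :=
    (bijective_appTop_of_field _ _).2
  have h0 := germ_eq_zero_of_section_general g' e' he' hk s' hs' x' hx'2
  have hinj : Function.Injective (p.stalkMap x').hom := by
    algebraize [(p.stalkMap x').hom]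
    have : Module.FaithfullyFlat (X.presheaf.stalk (p x')) ((pullback g j).presheaf.stalk x') :=
      @Module.FaithfullyFlat.of_flat_of_isLocalHom _ _ _ _ _ _ _
        (Flat.stalkMap p x') (p.toLRSHom.prop x')
    exact ‹RingHom.FaithfullyFlat _›.injective
  suffices ∀ (hy : p x' ∈ g ⁻¹ᵁ V), X.presheaf.germ (g ⁻¹ᵁ V) (p x') hy s = 0 by
    have key : ∀ (y : X), y = x → (∀ hy : y ∈ g ⁻¹ᵁ V, X.presheaf.germ (g ⁻¹ᵁ V) y hy s = 0) →
        X.presheaf.germ (g ⁻¹ᵁ V) x hx s = 0 := by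
      rintro y rfl h; exact h _
    exact key _ hx'1 this
  intro hy
  apply hinj
  rw [map_zero]
  erw [Scheme.Hom.germ_stalkMap_apply]
  rw [← h0]
  simp only [s', Scheme.Hom.appLE, CommRingCat.comp_apply]
  exact (TopCat.Presheaf.germ_res_apply _ _ _ _ _).symm

/-- **Rigidity lemma** (with a section, arbitrary base), local form. -/
theorem exists_opens_eq_comp_sectionG {S : Scheme.{u}} (p₀ : T ⟶ S) (q₀ : Y ⟶ S) [LocallyOfFiniteType q₀]
    (g : X ⟶ T) [Flat g] [LocallyOfFinitePresentation g] [UniversallyClosed g] [IsSeparated g] [GeometricallyConnected g] [GeometricallyReduced g]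
    (e : T ⟶ X) (he : e ≫ g = 𝟙 T) (f : X ⟶ Y) (hf : f ≫ q₀ = g ≫ p₀) (t : T) (ht : (f '' (g ⁻¹' {t})).Subsingleton) :
    ∃ W : T.Opens, t ∈ W ∧ (g ⁻¹ᵁ W).ι ≫ f = (g ⁻¹ᵁ W).ι ≫ g ≫ e ≫ f := by
  set h := g ≫ e ≫ f with hh
  have hget : ∀ a, g (e a) = a := fun a => by rw [← Scheme.Hom.comp_apply, he]; rfl
  have hconst : ∀ x, g x = t → f x = f (e t) ∧ h x = f (e t) := by
    intro x hx
    refine ⟨ht ⟨x, hx, rfl⟩ ⟨e t, hget t, rfl⟩, ?_⟩
    simp [hh, hx]
  obtain ⟨_, ⟨U₀, hU₀, rfl⟩, hyU₀, -⟩ :=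
    S.isBasis_affineOpens.exists_subset_of_mem_open (Set.mem_univ (q₀ (f (e t)))) isOpen_univ
  obtain ⟨_, ⟨U, hU, rfl⟩, hyU, hUU₀⟩ :=
    Y.isBasis_affineOpens.exists_subset_of_mem_open (show f (e t) ∈ q₀ ⁻¹ᵁ U₀ from hyU₀) (q₀ ⁻¹ᵁ U₀).isOpen
  have hUU : U ≤ q₀ ⁻¹ᵁ U₀ := hUU₀
  let φ := q₀.appLE U₀ U hUU
  have hhq : h ≫ q₀ = f ≫ q₀ := by simp only [hh, Category.assoc, hf, reassoc_of% he]
  -- a neighbourhood of `t` over which both maps land in `U`
  let G : X.Opens := f ⁻¹ᵁ U ⊓ h ⁻¹ᵁ U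
  have hGc : IsClosed (g '' (G : Set X)ᶜ) := g.isClosedMap _ G.isOpen.isClosed_compl
  have htG : t ∉ g '' (G : Set X)ᶜ := by
    rintro ⟨x, hxG, hxt⟩
    exact hxG ⟨show f x ∈ U from (hconst x hxt).1 ▸ hyU, show h x ∈ U from (hconst x hxt).2 ▸ hyU⟩
  obtain ⟨_, ⟨V, hV, rfl⟩, htV, hVG⟩ :=
    T.isBasis_affineOpens.exists_subset_of_mem_open (Set.mem_compl htG) hGc.isOpen_compl
  have hVG' : g ⁻¹ᵁ V ≤ G := fun x hx => by
    by_contra hc
    exact hVG hx ⟨x, hc, rfl⟩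
  have hle : V ≤ e ⁻¹ᵁ (g ⁻¹ᵁ V) := fun a ha => show g (e a) ∈ V by rw [hget]; exact ha
  have hker : ∀ a : Γ(Y, U), e.appLE (g ⁻¹ᵁ V) V hle
      (f.appLE U (g ⁻¹ᵁ V) (hVG'.trans inf_le_left) a - h.appLE U (g ⁻¹ᵁ V) (hVG'.trans inf_le_right) a) = 0 := by
    intro a
    rw [map_sub, ← CommRingCat.comp_apply, ← CommRingCat.comp_apply, Scheme.Hom.appLE_comp_appLE,
      Scheme.Hom.appLE_comp_appLE, sub_eq_zero]
    congr 2
    simp [hh, reassoc_of% he]
  -- a neighbourhood of the fibre on which all these functions vanish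
  have hnbhd : ∀ x, g x = t → ∃ N : X.Opens, x ∈ N ∧ ∃ hN : N ≤ g ⁻¹ᵁ V, ∀ a : Γ(Y, U),
      f.appLE U N (hN.trans (hVG'.trans inf_le_left)) a = h.appLE U N (hN.trans (hVG'.trans inf_le_right)) a := by
    intro x hx
    have hxV : x ∈ g ⁻¹ᵁ V := show g x ∈ V by rw [hx]; exact htV
    obtain ⟨_, ⟨W, hW, rfl⟩, hxW, hWV⟩ :=
      X.isBasis_affineOpens.exists_subset_of_mem_open hxV (g ⁻¹ᵁ V).isOpen
    let d := fun a : Γ(Y, U) =>
      f.appLE U W (hWV.trans (hVG'.trans inf_le_left)) a - h.appLE U W (hWV.trans (hVG'.trans inf_le_right)) a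
    let := φ.hom.toAlgebra
    have : Algebra.FiniteType Γ(S, U₀) Γ(Y, U) := q₀.finiteType_appLE hU₀ hU hUU
    obtain ⟨gens, hgens⟩ := (Algebra.FiniteType.out : (⊤ : Subalgebra Γ(S, U₀) Γ(Y, U)).FG)
    have hd : ∀ a ∈ gens, X.presheaf.germ W x hxW (d a) = X.presheaf.germ W x hxW 0 := fun a _ => by
      have hq := germ_eq_zero_of_sectionG g e he V hle _ (hker a) x hxV
      rw [map_zero]
      refine Eq.trans ?_ hq
      rw [← TopCat.Presheaf.germ_res_apply X.presheaf (homOfLE (show W ≤ g ⁻¹ᵁ V from hWV)) x hxW]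
      congr 1
      simp only [d, map_sub, ← CommRingCat.comp_apply, Scheme.Hom.appLE_map]
    choose! M hxM iM₁ iM₂ hM using fun a (ha : a ∈ gens) => X.presheaf.germ_eq (x := x) hxW hxW (d a) 0 (hd a ha)
    let N : X.Opens := W ⊓ gens.inf M
    have hxN : x ∈ N := ⟨hxW, Finset.inf_induction (p := fun O : X.Opens => x ∈ O) trivial
      (fun O hO O' hO' => ⟨hO, hO'⟩) hxM⟩
    refine ⟨N, hxN, inf_le_left.trans hWV, fun a => ?_⟩
    have hN : N ≤ g ⁻¹ᵁ V := inf_le_left.trans hWV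
    let F := (f.appLE U N (hN.trans (hVG'.trans inf_le_left))).hom
    let H := (h.appLE U N (hN.trans (hVG'.trans inf_le_right))).hom
    suffices ∀ a, F a = H a from this a
    intro a
    have ha : a ∈ Algebra.adjoin Γ(S, U₀) (gens : Set Γ(Y, U)) := hgens ▸ Algebra.mem_top
    induction ha using Algebra.adjoin_induction with
    | mem z hz =>
      have h2 := congrArg (X.presheaf.map (homOfLE (show N ≤ M z from inf_le_right.trans (Finset.inf_le hz))).op)
        (hM z hz)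
      simp only [d, map_sub, map_zero, ← CommRingCat.comp_apply, Category.assoc, ← Functor.map_comp, ← op_comp,
        Scheme.Hom.appLE_map] at h2
      exact sub_eq_zero.1 h2
    | algebraMap r =>
      show (f.appLE U N _) (q₀.appLE U₀ U hUU r) = (h.appLE U N _) (q₀.appLE U₀ U hUU r)
      rw [← CommRingCat.comp_apply, ← CommRingCat.comp_apply, Scheme.Hom.appLE_comp_appLE,
        Scheme.Hom.appLE_comp_appLE]
      congr 3
      exact hhq.symm
    | add z w _ _ hz hw => rw [map_add, map_add, hz, hw]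
    | mul z w _ _ hz hw => rw [map_mul, map_mul, hz, hw]
  choose! N hxN hNV hN using hnbhd
  let Nall : X.Opens := ⨆ (x : X) (_ : g x = t), N x
  have htN : t ∉ g '' (Nall : Set X)ᶜ := by
    rintro ⟨x, hx, hxt⟩
    exact hx (Opens.mem_iSup.2 ⟨x, Opens.mem_iSup.2 ⟨hxt, hxN x hxt⟩⟩)
  refine ⟨⟨(g '' (Nall : Set X)ᶜ)ᶜ, (g.isClosedMap _ Nall.isOpen.isClosed_compl).isOpen_compl⟩, htN, ?_⟩
  set Z : X.Opens := g ⁻¹ᵁ (⟨(g '' (Nall : Set X)ᶜ)ᶜ, (g.isClosedMap _ Nall.isOpen.isClosed_compl).isOpen_compl⟩ : T.Opens)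
  have hZ : ∀ z : Z, ∃ x : X, g x = t ∧ z.1 ∈ N x := by
    rintro ⟨z, hz⟩
    have : z ∈ Nall := by
      by_contra hc
      exact hz ⟨z, hc, rfl⟩
    obtain ⟨x, hx⟩ := Opens.mem_iSup.1 this
    obtain ⟨hxt, hx⟩ := Opens.mem_iSup.1 hx
    exact ⟨x, hxt, hx⟩
  apply Scheme.Cover.hom_ext (Scheme.openCoverOfIsOpenCover Z.toScheme (fun z : {W : X.affineOpens // W.1 ≤ Z ∧ ∃ x, g x = t ∧ W.1 ≤ N x} => Z.ι ⁻¹ᵁ z.1.1) ?_)
  · rintro ⟨W, hWZ, x, hxt, hWx⟩
    show (Z.ι ⁻¹ᵁ W.1).ι ≫ Z.ι ≫ f = (Z.ι ⁻¹ᵁ W.1).ι ≫ Z.ι ≫ h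
    have : IsAffine W.1 := W.2
    have e0 : (Z.ι ⁻¹ᵁ W.1).ι ≫ Z.ι = (Z.ι ∣_ W.1) ≫ W.1.ι := (morphismRestrict_ι _ _).symm
    rw [← Category.assoc, ← Category.assoc, e0, Category.assoc, Category.assoc]
    congr 1
    rw [← cancel_epi W.2.isoSpec.inv]
    have hWf : W.1 ≤ f ⁻¹ᵁ U := hWx.trans ((hNV x hxt).trans (hVG'.trans inf_le_left))
    have hWh : W.1 ≤ h ⁻¹ᵁ U := hWx.trans ((hNV x hxt).trans (hVG'.trans inf_le_right))
    have hfs : W.2.isoSpec.inv ≫ W.1.ι = W.2.fromSpec := rfl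
    rw [reassoc_of% hfs, reassoc_of% hfs, ← IsAffineOpen.SpecMap_appLE_fromSpec f hU W.2 hWf,
      ← IsAffineOpen.SpecMap_appLE_fromSpec h hU W.2 hWh]
    congr 2
    ext a
    have := congrArg (X.presheaf.map (homOfLE hWx).op) (hN x hxt a)
    simp only [← CommRingCat.comp_apply, Scheme.Hom.appLE_map] at this
    exact this
  · rw [IsOpenCover, eq_top_iff]
    intro z _
    obtain ⟨x, hxt, hzx⟩ := hZ z
    obtain ⟨_, ⟨W, hW, rfl⟩, hzW, hWle⟩ :=
      X.isBasis_affineOpens.exists_subset_of_mem_open (show z.1 ∈ (Z ⊓ N x : X.Opens) from ⟨z.2, hzx⟩) (Z ⊓ N x).isOpen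
    exact Opens.mem_iSup.2 ⟨⟨⟨W, hW⟩, fun a ha => (hWle ha).1, x, hxt, fun a ha => (hWle ha).2⟩, hzW⟩


/-- The locus of the base over which `f` contracts the fibre. -/
def collapsedLocus (g : X ⟶ T) (f : X ⟶ Y) : Set T := {t | (f '' (g ⁻¹' {t})).Subsingleton}

/-- The collapsed locus is open and closed as soon as `f` factors through the section locally around it. -/
theorem isClopen_collapsedLocus_of_local {S : Scheme.{u}} (q₀ : Y ⟶ S) [IsSeparated q₀] (g : X ⟶ T) [UniversallyOpen g]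
    (e : T ⟶ X) (he : e ≫ g = 𝟙 T) (f : X ⟶ Y) (hhq : (g ≫ e ≫ f) ≫ q₀ = f ≫ q₀)
    (H : ∀ t ∈ collapsedLocus g f, ∃ W : T.Opens, t ∈ W ∧ (g ⁻¹ᵁ W).ι ≫ f = (g ⁻¹ᵁ W).ι ≫ g ≫ e ≫ f) :
    IsClopen (collapsedLocus g f) ∧ ∀ W : T.Opens, (W : Set T) ⊆ collapsedLocus g f →
      (g ⁻¹ᵁ W).ι ≫ f = (g ⁻¹ᵁ W).ι ≫ g ≫ e ≫ f := by
  have hget : ∀ a, g (e a) = a := fun a => by rw [← Scheme.Hom.comp_apply, he]; rfl
  have hop : IsOpen (collapsedLocus g f) := by
    rw [isOpen_iff_forall_mem_open]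
    intro t ht
    obtain ⟨W, htW, hW⟩ := H t ht
    refine ⟨W, fun a haW => ?_, W.isOpen, htW⟩
    rintro _ ⟨x, hx, rfl⟩ _ ⟨x', hx', rfl⟩
    have key : ∀ z, g z = a → f z = f (e a) := fun z hz => by
      have := congr($hW ⟨z, show g z ∈ W from hz ▸ haW⟩)
      simp only [Scheme.Hom.comp_apply] at this
      exact this.trans (congrArg (fun b => f (e b)) hz)
    rw [key x hx, key x' hx']
  have hgl : ∀ W : T.Opens, (W : Set T) ⊆ collapsedLocus g f →
      (g ⁻¹ᵁ W).ι ≫ f = (g ⁻¹ᵁ W).ι ≫ g ≫ e ≫ f := by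
    intro W hW
    choose V htV hV using fun (t : W) => H t.1 (hW t.2)
    refine Scheme.Cover.hom_ext (Scheme.openCoverOfIsOpenCover (g ⁻¹ᵁ W).toScheme
      (fun t : W => (g ⁻¹ᵁ W).ι ⁻¹ᵁ (g ⁻¹ᵁ V t)) ?_) _ _ fun t => ?_
    · rw [IsOpenCover, eq_top_iff]
      intro z _
      exact Opens.mem_iSup.2 ⟨⟨g z.1, z.2⟩, htV _⟩
    · show ((g ⁻¹ᵁ W).ι ⁻¹ᵁ (g ⁻¹ᵁ V t)).ι ≫ (g ⁻¹ᵁ W).ι ≫ f =
        ((g ⁻¹ᵁ W).ι ⁻¹ᵁ (g ⁻¹ᵁ V t)).ι ≫ (g ⁻¹ᵁ W).ι ≫ g ≫ e ≫ f
      rw [← morphismRestrict_ι_assoc, ← morphismRestrict_ι_assoc, hV t]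
  refine ⟨⟨?_, hop⟩, hgl⟩
  -- closedness
  let h := g ≫ e ≫ f
  let fh : X ⟶ pullback q₀ q₀ := pullback.lift f h hhq.symm
  let Z : Set X := fh ⁻¹' Set.range (pullback.diagonal q₀)
  have hZ : IsClosed Z := ((pullback.diagonal q₀).isClosedEmbedding.isClosed_range).preimage fh.continuous
  have hZf : ∀ x ∈ Z, f x = f (e (g x)) := by
    rintro x ⟨y, hy⟩
    have h1 : f x = y := by
      have : (fh ≫ pullback.fst q₀ q₀) x = (pullback.diagonal q₀ ≫ pullback.fst q₀ q₀) y :=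
        congrArg (pullback.fst q₀ q₀) hy.symm
      rwa [pullback.lift_fst, pullback.diagonal_fst] at this
    have h2 : h x = y := by
      have : (fh ≫ pullback.snd q₀ q₀) x = (pullback.diagonal q₀ ≫ pullback.snd q₀ q₀) y :=
        congrArg (pullback.snd q₀ q₀) hy.symm
      rwa [pullback.lift_snd, pullback.diagonal_snd] at this
    rw [h1, ← h2]
    simp [h]
  have heq : collapsedLocus g f = (g '' Zᶜ)ᶜ := by
    ext t
    refine ⟨fun ht => ?_, fun ht => ?_⟩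
    · rintro ⟨x, hxZ, hxt⟩
      obtain ⟨W, htW, hW⟩ := H t ht
      refine hxZ ⟨f x, ?_⟩
      have hW' : (g ⁻¹ᵁ W).ι ≫ fh = (g ⁻¹ᵁ W).ι ≫ f ≫ pullback.diagonal q₀ := by
        apply pullback.hom_ext <;>
          simp only [fh, h, Category.assoc, pullback.lift_fst, pullback.lift_snd, pullback.diagonal_fst,
            pullback.diagonal_snd, Category.comp_id, hW]
      exact (congr($hW' ⟨x, show g x ∈ W from hxt ▸ htW⟩)).symm
    · rintro _ ⟨x, hx, rfl⟩ _ ⟨x', hx', rfl⟩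
      have hmem : ∀ z, g z = t → z ∈ Z := fun z hz => by
        by_contra hc
        exact ht ⟨z, hc, hz⟩
      rw [hZf x (hmem x hx), hZf x' (hmem x' hx'), show g x = t from hx, show g x' = t from hx']
  rw [heq]
  exact (g.isOpenMap _ hZ.isOpen_compl).isClosed_compl


/-- Factorisation through the base over the collapsed locus, assuming local factorisation after base change to `X`. -/
theorem exists_factor_of_local {S : Scheme.{u}} (p₀ : T ⟶ S) (q₀ : Y ⟶ S) [IsSeparated q₀]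
    (g : X ⟶ T) [IsProper g] [Flat g] [UniversallyOpen g] [Surjective g] (f : X ⟶ Y) (hf : f ≫ q₀ = g ≫ p₀)
    (H : ∀ t ∈ collapsedLocus (pullback.snd g g) (pullback.fst g g ≫ f), ∃ W : X.Opens, t ∈ W ∧
      ((pullback.snd g g) ⁻¹ᵁ W).ι ≫ pullback.fst g g ≫ f = ((pullback.snd g g) ⁻¹ᵁ W).ι ≫
        pullback.snd g g ≫ pullback.diagonal g ≫ pullback.fst g g ≫ f) :
    ∃ W : T.Opens, (W : Set T) = collapsedLocus g f ∧ IsClosed (W : Set T) ∧
      ∃ k : (W : Scheme.{u}) ⟶ Y, (g ⁻¹ᵁ W).ι ≫ f = (g ∣_ W) ≫ k := by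
  let g' := pullback.snd g g
  let f' := pullback.fst g g ≫ f
  have hf' : f' ≫ q₀ = g' ≫ g ≫ p₀ := by
    simp only [f', g', Category.assoc, hf, pullback.condition_assoc]
  obtain ⟨hcl, heq⟩ := isClopen_collapsedLocus_of_local q₀ g' (pullback.diagonal g) (pullback.diagonal_snd g) f'
    (by simp only [Category.assoc, hf', g', pullback.diagonal_snd_assoc]) H
  have hW' : collapsedLocus g' f' = g ⁻¹' collapsedLocus g f := by
    ext x
    have : f' '' (g' ⁻¹' {x}) = f '' (g ⁻¹' {g x}) := by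
      apply Set.Subset.antisymm
      · rintro _ ⟨z, hz, rfl⟩
        refine ⟨pullback.fst g g z, ?_, rfl⟩
        show g _ = g x
        rw [← show g' z = x from hz]
        exact congr($(pullback.condition (f := g) (g := g)) z)
      · rintro _ ⟨a, ha, rfl⟩
        obtain ⟨z, hz1, hz2⟩ := Scheme.Pullback.exists_preimage_pullback (f := g) (g := g) a x ha
        exact ⟨z, hz2, by simp [f', hz1]⟩
    show (f' '' _).Subsingleton ↔ (f '' _).Subsingleton
    rw [this]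
  rw [hW'] at hcl heq
  have himg : g '' (g ⁻¹' collapsedLocus g f) = collapsedLocus g f := Set.image_preimage_eq _ g.surjective
  have hop : IsOpen (collapsedLocus g f) := himg ▸ g.isOpenMap _ hcl.2
  let W : T.Opens := ⟨_, hop⟩
  refine ⟨W, rfl, show IsClosed (collapsedLocus g f) from himg ▸ g.isClosedMap _ hcl.1, ?_⟩
  have h1 := heq (g ⁻¹ᵁ W) subset_rfl
  have : Surjective (g ∣_ W) := IsZariskiLocalAtTarget.restrict (inferInstanceAs (Surjective g)) W
  let φ := EffectiveEpi.desc (g ∣_ W) ((g ⁻¹ᵁ W).ι ≫ f)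
  refine ⟨φ fun {Z} a b hab => ?_, (EffectiveEpi.fac _ _ _).symm⟩
  have hab' : (a ≫ (g ⁻¹ᵁ W).ι) ≫ g = (b ≫ (g ⁻¹ᵁ W).ι) ≫ g := by
    simp only [Category.assoc, ← morphismRestrict_ι, reassoc_of% hab]
  let c := pullback.lift _ _ hab'
  let c' : Z ⟶ g' ⁻¹ᵁ (g ⁻¹ᵁ W) := IsOpenImmersion.lift (g' ⁻¹ᵁ (g ⁻¹ᵁ W)).ι c (by
    rw [Scheme.Opens.range_ι]
    rintro _ ⟨z, rfl⟩
    show g' (c z) ∈ g ⁻¹ᵁ W
    rw [← Scheme.Hom.comp_apply, pullback.lift_snd]
    exact (b z).2)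
  have h2 := c' ≫= h1
  simp only [c', IsOpenImmersion.lift_fac_assoc, f', g', c] at h2
  rw [pullback.lift_fst_assoc, pullback.lift_snd_assoc, pullback.diagonal_fst_assoc] at h2
  simpa only [Category.assoc] using h2


variable {S : Scheme.{u}} (p₀ : T ⟶ S) (q₀ : Y ⟶ S) [IsSeparated q₀] [LocallyOfFiniteType q₀]
  (g : X ⟶ T) [IsProper g] [Flat g] [LocallyOfFinitePresentation g] [GeometricallyConnected g] [GeometricallyReduced g]
  (f : X ⟶ Y)

/-- **Rigidity lemma** (with a section): the collapsed locus is open and closed and `f` factors through it. -/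
theorem isClopen_collapsedLocus_and_eq_section (e : T ⟶ X) (he : e ≫ g = 𝟙 T) (hf : f ≫ q₀ = g ≫ p₀) :
    IsClopen (collapsedLocus g f) ∧ ∀ W : T.Opens, (W : Set T) ⊆ collapsedLocus g f →
      (g ⁻¹ᵁ W).ι ≫ f = (g ⁻¹ᵁ W).ι ≫ g ≫ e ≫ f := by
  exact isClopen_collapsedLocus_of_local q₀ g e he f (by simp only [Category.assoc, hf, reassoc_of% he])
    fun t ht => exists_opens_eq_comp_sectionG p₀ q₀ g e he f hf t ht

/-- **Rigidity lemma**: the collapsed locus is open and closed and `f` factors through the base over it. -/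
theorem exists_factor_of_collapsed (hf : f ≫ q₀ = g ≫ p₀) :
    ∃ W : T.Opens, (W : Set T) = collapsedLocus g f ∧ IsClosed (W : Set T) ∧
      ∃ k : (W : Scheme.{u}) ⟶ Y, (g ⁻¹ᵁ W).ι ≫ f = (g ∣_ W) ≫ k := by
  exact exists_factor_of_local p₀ q₀ g f hf fun t ht =>
    exists_opens_eq_comp_sectionG (g ≫ p₀) q₀ _ (pullback.diagonal g) (pullback.diagonal_snd g) _
      (by simp only [Category.assoc, hf, pullback.condition_assoc]) t ht

end Groth.Agent.AbSchLib
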