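import Mathlib.AlgebraicGeometry.Geometrically.Connected
import Mathlib.AlgebraicGeometry.Geometrically.Reduced
import Mathlib.AlgebraicGeometry.Morphisms.Proper
import Mathlib.AlgebraicGeometry.Morphisms.Flat
import Mathlib.RingTheory.Flat.FaithfullyFlat.Algebra
import Mathlib.FieldTheory.IsAlgClosed.AlgebraicClosure

/-!
# Global functions on proper geometrically connected and reduced schemes over a field
-/

universe u

open CategoryTheory Limits AlgebraicGeometry Opposite

namespace Groth.Agent.AbSchLib

section Idempotent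

variable {X : Scheme.{u}}

theorem nontrivial_sections_of_nonempty [Nonempty X] : Nontrivial Γ(X, ⊤) := by
  obtain ⟨x⟩ := ‹Nonempty X›
  exact RingHom.domain_nontrivial (X.presheaf.germ ⊤ x trivial).hom

theorem eq_zero_or_one_of_isIdempotentElem [IsReduced X] [PreconnectedSpace X]
    (e : Γ(X, ⊤)) (he : e * e = e) : e = 0 ∨ e = 1 := by
  have hu : (X.basicOpen e : Set X) ∪ X.basicOpen (1 - e) = Set.univ := by
    refine Set.eq_univ_of_forall fun x => ?_
    rw [Set.mem_union, SetLike.mem_coe, SetLike.mem_coe, Scheme.mem_basicOpen_top, Scheme.mem_basicOpen_top]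
    exact IsLocalRing.isUnit_or_isUnit_of_isUnit_add (by rw [← map_add, add_sub_cancel, map_one]; exact isUnit_one)
  have hd : ∀ x, ¬(x ∈ X.basicOpen e ∧ x ∈ X.basicOpen (1 - e)) := by
    rintro x ⟨h1, h2⟩
    rw [Scheme.mem_basicOpen_top] at h1 h2
    have h12 := h1.mul h2
    rw [← map_mul, mul_sub, mul_one, he, sub_self, map_zero] at h12
    exact not_isUnit_zero h12
  have hcl : IsClopen (X.basicOpen e : Set X) := by
    refine ⟨⟨?_⟩, (X.basicOpen e).isOpen⟩
    have : ((X.basicOpen e : Set X))ᶜ = X.basicOpen (1 - e) := by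
      ext x
      constructor
      · intro hx
        exact ((Set.eq_univ_iff_forall.1 hu x).resolve_left hx)
      · intro hx hx'; exact hd x ⟨hx', hx⟩
    rw [this]; exact (X.basicOpen (1 - e)).isOpen
  rcases isClopen_iff.1 hcl with h | h
  · left
    rw [← AlgebraicGeometry.basicOpen_eq_bot_iff (U := ⊤)]
    exact TopologicalSpace.Opens.ext h
  · right
    have : X.basicOpen (1 - e) = ⊥ := by
      refine TopologicalSpace.Opens.ext ?_
      refine Set.eq_empty_of_forall_notMem fun x hx => hd x ⟨?_, hx⟩
      show x ∈ (X.basicOpen e : Set X)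
      rw [h]; trivial
    rw [AlgebraicGeometry.basicOpen_eq_bot_iff, sub_eq_zero] at this
    exact this.symm

theorem isField_of_isIntegral (K : Type u) [Field K] [IsReduced X] [ConnectedSpace X]
    [Algebra K Γ(X, ⊤)] [Algebra.IsIntegral K Γ(X, ⊤)] : IsField Γ(X, ⊤) := by
  have := nontrivial_sections_of_nonempty (X := X)
  refine ⟨exists_pair_ne _, mul_comm, fun {a} ha => ?_⟩
  obtain ⟨p, hp, hpa⟩ := Algebra.IsIntegral.isIntegral (R := K) a
  rw [← Polynomial.aeval_def] at hpa
  obtain ⟨q, hq, hqd⟩ := p.exists_eq_pow_rootMultiplicity_mul_and_not_dvd hp.ne_zero 0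
  rw [map_zero, sub_zero] at hq hqd
  have hc : q.coeff 0 ≠ 0 := fun h => hqd (Polynomial.X_dvd_iff.2 h)
  generalize p.rootMultiplicity 0 = n at hq
  obtain ⟨h, hh⟩ : ∃ h, a ^ n = a ^ n * (a * h) := by
    refine ⟨algebraMap K _ (-(q.coeff 0)⁻¹) * Polynomial.aeval a q.divX, ?_⟩
    have hqa : Polynomial.aeval a q = a * Polynomial.aeval a q.divX + algebraMap K _ (q.coeff 0) := by
      conv_lhs => rw [← Polynomial.X_mul_divX_add q]
      rw [map_add, map_mul, Polynomial.aeval_X, Polynomial.aeval_C]
    rw [hq, map_mul, map_pow, Polynomial.aeval_X, hqa, mul_add] at hpa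
    have hinv : algebraMap K Γ(X, ⊤) (q.coeff 0) * algebraMap K _ (-(q.coeff 0)⁻¹) = -1 := by
      rw [← map_mul, mul_neg, mul_inv_cancel₀ hc, map_neg, map_one]
    linear_combination -(algebraMap K Γ(X, ⊤) (-(q.coeff 0)⁻¹)) * hpa + (a ^ n) * hinv
  have hpow : ∀ m : ℕ, a ^ n = a ^ n * (a * h) ^ m := by
    intro m
    induction m with
    | zero => simp
    | succ m ih => rw [pow_succ', ← mul_assoc, ← hh, ← ih]
  have he : (a * h) ^ n * (a * h) ^ n = (a * h) ^ n := by
    conv_rhs => rw [mul_pow, hpow n]
    ring
  rcases eq_zero_or_one_of_isIdempotentElem _ he with h0 | h1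
  · exfalso
    have h00 := hpow n
    rw [h0, mul_zero] at h00
    exact ha (IsNilpotent.eq_zero ⟨n, h00⟩)
  · rcases n with _ | n
    · exact ⟨h, by simpa using hh.symm⟩
    · refine ⟨h * (a * h) ^ n, ?_⟩
      rw [← mul_assoc, ← pow_succ', h1]

end Idempotent

theorem surjective_appTop_of_isAlgClosed (K : Type u) [Field K] [IsAlgClosed K] {X : Scheme.{u}}
    (f : X ⟶ Spec (CommRingCat.of K)) [UniversallyClosed f] [IsReduced X] [ConnectedSpace X] :
    Function.Surjective f.appTop.hom := by
  let F := (Scheme.ΓSpecIso (CommRingCat.of K)).inv ≫ f.appTop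
  have : F.hom.IsIntegral := by
    apply RingHom.isIntegral_respectsIso.2 (e := (Scheme.ΓSpecIso _).symm.commRingCatIsoToRingEquiv)
    exact isIntegral_appTop_of_universallyClosed f
  algebraize [F.hom]
  let := (isField_of_isIntegral (X := X) K).toField
  have hb := (IsAlgClosed.algebraMap_bijective_of_isIntegral (k := K) (K := Γ(X, ⊤))).2
  intro y
  obtain ⟨x, hx⟩ := hb y
  exact ⟨(Scheme.ΓSpecIso (CommRingCat.of K)).inv x, hx⟩

theorem surjective_of_pushout_inr_surjective {R A B : CommRingCat.{u}} (f : R ⟶ A) (g : R ⟶ B)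
    (hR : IsField R) [Nontrivial B] (h : Function.Surjective (pushout.inr f g).hom) :
    Function.Surjective f.hom := by
  let := hR.toField
  algebraize [f.hom, g.hom]
  have e := CommRingCat.isPushout_tensorProduct R A B
  have hinr : Function.Surjective (Algebra.TensorProduct.includeRight : B →ₐ[R] TensorProduct R A B) := by
    intro t
    obtain ⟨b, hb⟩ := h (e.isoPushout.hom t)
    refine ⟨b, ?_⟩
    have h1 : CommRingCat.ofHom (Algebra.TensorProduct.includeRight (R := R) (A := A) (B := B)).toRingHom ≫
        e.isoPushout.hom = pushout.inr _ _ := e.inr_isoPushout_hom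
    apply (ConcreteCategory.bijective_of_isIso e.isoPushout.hom).1
    rw [← hb]
    exact congr($h1 b)
  have hs : Function.Surjective ((Algebra.linearMap R A).rTensor B) := by
    intro t
    obtain ⟨b, hb⟩ := hinr t
    refine ⟨(1 : R) ⊗ₜ b, ?_⟩
    rw [← hb]
    simp [Algebra.TensorProduct.includeRight]
  refine (Module.FaithfullyFlat.lTensor_surjective_iff_surjective R B (Algebra.linearMap R A)).1 ?_
  intro t
  obtain ⟨t', ht'⟩ := hs (TensorProduct.comm R B A t)
  refine ⟨TensorProduct.comm R R B t', ?_⟩
  have e : ∀ z : TensorProduct R R B, (Algebra.linearMap R A).lTensor B (TensorProduct.comm R R B z) =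
      TensorProduct.comm R A B ((Algebra.linearMap R A).rTensor B z) := by
    intro z
    induction z using TensorProduct.induction_on with
    | zero => simp
    | tmul x y => simp
    | add x y hx hy => simp only [map_add, hx, hy]
  rw [e, ht']
  simp

/-- A universally closed, quasi-separated, geometrically connected and geometrically reduced scheme over a field
has only constant global functions. -/
theorem bijective_appTop_of_field (K : Type u) [Field K] {X : Scheme.{u}}
    (f : X ⟶ Spec (CommRingCat.of K)) [UniversallyClosed f] [QuasiSeparated f] [GeometricallyConnected f]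
    [GeometricallyReduced f] : Function.Bijective f.appTop.hom := by
  have : ConnectedSpace X := GeometricallyConnected.connectedSpace_of_subsingleton f
  have := nontrivial_sections_of_nonempty (X := X)
  have hK : IsField Γ(Spec (CommRingCat.of K), ⊤) :=
    (Scheme.ΓSpecIso (CommRingCat.of K)).commRingCatIsoToRingEquiv.toMulEquiv.isField (Field.toIsField K)
  refine ⟨?_, ?_⟩
  · let := hK.toField
    exact f.appTop.hom.injective
  let Ω := AlgebraicClosure K
  let g : Spec (CommRingCat.of Ω) ⟶ Spec (CommRingCat.of K) := Spec.map (CommRingCat.ofHom (algebraMap K Ω))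
  have : ConnectedSpace ↥(pullback f g) := GeometricallyConnected.geometrically_connectedSpace _ _ _ (.of_hasPullback f g)
  have : IsReduced (pullback f g) := GeometricallyReduced.geometrically_isReduced _ _ _ (.of_hasPullback f g)
  have hs := surjective_appTop_of_isAlgClosed Ω (pullback.snd f g)
  have H := IsPullback.of_hasPullback f g
  have : CompactSpace X := (quasiCompact_iff_compactSpace f).mp inferInstance
  have hm := mono_pushoutSection_of_isCompact_of_flat_right H (US := ⊤) (UT := ⊤) (UX := ⊤) (UY := ⊤)
    (by simp) (by simp) (by simp) (isAffineOpen_top _) (isAffineOpen_top _) isCompact_univ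
  have hinj := ConcreteCategory.injective_of_mono_of_preservesPullback (pushoutSection H (US := ⊤) (UT := ⊤) (UX := ⊤) (UY := ⊤) _ _ _)
  have hinr : Function.Surjective (pushout.inr (f.appLE ⊤ ⊤ (by simp)) (g.appLE ⊤ ⊤ (by simp))).hom := by
    intro z
    obtain ⟨b, hb⟩ := hs (pushoutSection H (US := ⊤) (UT := ⊤) (UX := ⊤) (UY := ⊤) (by simp) (by simp) (by simp) z)
    refine ⟨b, hinj ?_⟩
    rw [← hb, ← CommRingCat.comp_apply, pushoutSection, pushout.inr_desc]
    simp [Scheme.Hom.appLE, Scheme.Hom.appTop]
  have : Nontrivial Γ(Spec (CommRingCat.of Ω), ⊤) := nontrivial_sections_of_nonempty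
  have := surjective_of_pushout_inr_surjective _ _ hK hinr
  simpa [Scheme.Hom.appLE, Scheme.Hom.appTop] using this

end Groth.Agent.AbSchLib
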