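import Groth.Agent.AbCubeLib.KernelPhi
import Groth.Agent.AbCubeLib.PointsBC
import Groth.Agent.AbVarLib.GeomIntegralSmooth
import Groth.Agent.AmpleLib.Local
import Groth.Prelude.Def_ThetaK
import Mathlib.AlgebraicGeometry.ZariskisMainTheorem

/-!
# Finiteness of `K(L)` for a relatively ample invertible module
-/

set_option autoImplicit false
set_option backward.isDefEq.respectTransparency.types false

universe u

open CategoryTheory CategoryTheory.Limits MonoidalCategory CartesianMonoidalCategory AlgebraicGeometry MonObj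
  TopologicalSpace
open Groth.Agent.PicLib Groth.Agent.AbCubeLib Groth.Agent.CubeLib

namespace Groth.Agent.AbSchLib.FiniteKL

variable {S T : Scheme.{u}} (g : T ⟶ S)

/-- An object over `T` maps to the base change of its push forward. -/
noncomputable def unitMap (T' : Over T) : T' ⟶ (Over.pullback g).obj (Over.mk (T'.hom ≫ g)) :=
  Over.homMk (pullback.lift (𝟙 _) T'.hom (Category.id_comp _)) (pullback.lift_snd _ _ _)

variable {A : Over S} [GrpObj A]

noncomputable local instance : GrpObj ((Over.pullback g).obj A) := Functor.grpObjObj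

/-- Products of points of a base change project to products. -/
theorem mul_left_fst {T' : Over T} {q : T'.left ⟶ S} (hq : q = T'.hom ≫ g)
    (a b : T' ⟶ (Over.pullback g).obj A) (a₀ b₀ : Over.mk q ⟶ A)
    (ha : a.left ≫ pullback.fst A.hom g = a₀.left) (hb : b.left ≫ pullback.fst A.hom g = b₀.left) :
    (a * b).left ≫ pullback.fst A.hom g = (a₀ * b₀).left := by
  subst hq
  have key : ∀ c : Over.mk (T'.hom ≫ g) ⟶ A, (unitMap g T' ≫ (Over.pullback g).map c).left ≫ pullback.fst A.hom g = c.left :=
    fun c => by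
      have h : ((Over.pullback g).map c).left ≫ pullback.fst A.hom g = pullback.fst (T'.hom ≫ g) g ≫ c.left :=
        pullback.lift_fst _ _ _
      rw [Over.comp_left, Category.assoc, h, ← Category.assoc]
      exact (congrArg (· ≫ c.left) (pullback.lift_fst _ _ _)).trans (Category.id_comp _)
  have hext : ∀ (c : T' ⟶ (Over.pullback g).obj A) (c₀ : Over.mk (T'.hom ≫ g) ⟶ A),
      c.left ≫ pullback.fst A.hom g = c₀.left → c = unitMap g T' ≫ (Over.pullback g).map c₀ := fun c c₀ h =>
    Over.OverMorphism.ext (pullback.hom_ext (h.trans (key c₀).symm)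
      ((Over.w c).trans (Over.w (unitMap g T' ≫ (Over.pullback g).map c₀)).symm))
  rw [hext a a₀ ha, hext b b₀ hb, ← MonObj.comp_mul]
  rw [show (Over.pullback g).map a₀ * (Over.pullback g).map b₀ = (Over.pullback g).map (a₀ * b₀) from
    (map_mul (Over.pullback g).homMonoidHom a₀ b₀).symm]
  exact key _

/-- Along a point with values in a field, a trivial Mumford module is invariance under translation. -/
theorem pull_translate_eq {K : Type u} [Field K] (s : Spec (CommRingCat.of K) ⟶ S) {L : A.left.Modules}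
    (hL : PicF.IsInvertible L) (z : Over.mk s ⟶ A) (hz : ThetaGrp.IsMumfordTriv A L z) :
    letI : GrpObj ((Over.pullback s).obj A) := Functor.grpObjObj
    pb (𝟙 ((Over.pullback s).obj A) * (toUnit _ ≫ bcPts s A z)) (PicM.pull (pullback.fst A.hom s) (PicM.of hL)) =
      PicM.pull (pullback.fst A.hom s) (PicM.of hL) := by
  obtain ⟨M, hM, ⟨eM⟩⟩ := hz
  have hm : PicM.pull (((A ◁ z) ≫ μ[A]).left) (PicM.of hL) =
      PicM.pull (snd A (Over.mk s)).left (PicM.of hM) * PicM.pull (fst A (Over.mk s)).left (PicM.of hL) *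
        PicM.pull (snd A (Over.mk s) ≫ z).left (PicM.of hL) := by
    rw [PicM.pull_of, PicM.pull_of, PicM.pull_of, PicM.pull_of, PicM.of_mul, PicM.of_mul, PicM.of_eq_iff]
    exact ⟨eM.symm⟩
  have h1 : PicM.of hM = 1 := PicM.eq_one_of_field K _
  have h2 : PicM.pull z.left (PicM.of hL) = 1 := PicM.eq_one_of_field K _
  rw [h1, map_one, _root_.one_mul, Over.comp_left (f := snd A (Over.mk s)) (g := z), ← PicM.pull_pull, h2, map_one,
    _root_.mul_one] at hm
  refine (PicM.pull_pull _ _ _).trans (Eq.trans ?_ hm)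
  congr 2
  let x := bcPts s A z
  let AK : Over (Spec (CommRingCat.of K)) := (Over.pullback s).obj A
  have hc : (A ◁ z) ≫ μ[A] = fst A (Over.mk s) * (snd A (Over.mk s) ≫ z) := by
    rw [show μ[A] = fst A A * snd A A by rw [Hom.mul_def, lift_fst_snd, Category.id_comp], comp_mul,
      whiskerLeft_fst, whiskerLeft_snd]
  rw [hc]
  refine mul_left_fst s (T' := AK) (q := pullback.fst A.hom s ≫ A.hom) pullback.condition _ _
    (fst A (Over.mk s)) (snd A (Over.mk s) ≫ z) (Category.id_comp _) ?_
  show (toUnit AK ≫ tautPt s ≫ (Over.pullback s).map z).left ≫ pullback.fst A.hom s = _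
  rw [Over.comp_left, Category.assoc, tautPt_map_left, Over.toUnit_left]
  rfl

/-- `K(L)` has finitely many points with values in an algebraically closed field. -/
theorem finite_points [IsProper A.hom] [Smooth A.hom] [GeometricallyConnected A.hom] {L : A.left.Modules}
    (hL : RelAmple.IsRelAmple A.hom L) {K : Over S} (i : K ⟶ A) (hK : ThetaGrp.IsKL A L i)
    {Ω : Type u} [Field Ω] [IsAlgClosed Ω] (s : Spec (CommRingCat.of Ω) ⟶ S) : Finite (Over.mk s ⟶ K) := by
  haveI : IsClosedImmersion i.left := hK.closed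
  letI : GrpObj ((Over.pullback s).obj A) := Functor.grpObjObj
  let AK : Over (Spec (CommRingCat.of Ω)) := (Over.pullback s).obj A
  haveI : IsProper AK.hom := inferInstanceAs (IsProper (pullback.snd A.hom s))
  haveI : Smooth AK.hom := inferInstanceAs (Smooth (pullback.snd A.hom s))
  haveI : GeometricallyConnected AK.hom := inferInstanceAs (GeometricallyConnected (pullback.snd A.hom s))
  haveI : GeometricallyIntegral AK.hom := AbVarLib.geometricallyIntegral_of_smooth AK.hom
  obtain ⟨_, ⟨(V : S.Opens), hV, rfl⟩, htV, -⟩ := S.isBasis_affineOpens.exists_subset_of_mem_open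
    (Set.mem_univ (s (IsLocalRing.closedPoint Ω))) isOpen_univ
  have hsV : Set.range s ⊆ Set.range V.ι := by
    rw [Scheme.Opens.range_ι]
    rintro _ ⟨w, rfl⟩
    rwa [Subsingleton.elim w (IsLocalRing.closedPoint Ω)]
  let s' := IsOpenImmersion.lift V.ι s hsV
  have hs' : s' ≫ V.ι = s := IsOpenImmersion.lift_fac _ _ _
  have hfac : Set.range (pullback.fst A.hom s) ⊆ Set.range (A.hom ⁻¹ᵁ V).ι := by
    rw [Scheme.Opens.range_ι]
    rintro _ ⟨w, rfl⟩
    show A.hom (pullback.fst A.hom s w) ∈ V
    rw [← Scheme.Hom.comp_apply, pullback.condition, Scheme.Hom.comp_apply]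
    have := hsV ⟨pullback.snd A.hom s w, rfl⟩
    rwa [Scheme.Opens.range_ι] at this
  let j := IsOpenImmersion.lift (A.hom ⁻¹ᵁ V).ι (pullback.fst A.hom s) hfac
  have hj : j ≫ (A.hom ⁻¹ᵁ V).ι = pullback.fst A.hom s := IsOpenImmersion.lift_fac _ _ _
  haveI : IsAffineHom j := by
    have hjp : IsPullback j (pullback.snd A.hom s) (A.hom ∣_ V) s' := by
      refine IsPullback.of_right (h₁₂ := (A.hom ⁻¹ᵁ V).ι) (v₁₃ := A.hom) (h₂₂ := V.ι) ?_ ?_
        (isPullback_morphismRestrict A.hom V).flip
      · rw [hj, hs']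
        exact IsPullback.of_hasPullback A.hom s
      · rw [← cancel_mono V.ι, Category.assoc, Category.assoc, morphismRestrict_ι, reassoc_of% hj, hs',
          pullback.condition]
    haveI : IsAffine V := hV
    haveI : IsAffineHom s' := inferInstance
    exact MorphismProperty.of_isPullback hjp.flip inferInstance
  have hamp : CohB1.IsAmple ((Scheme.Modules.pullback j).obj (L.restrict (A.hom ⁻¹ᵁ V).ι)) :=
    AmpleLib.isAmple_pullback_of_isAffineHom j (hL.2 ⟨V, hV⟩)
  have hinvL : PicF.IsInvertible L := AmpleLib.isInvertible_of_isRelAmple A.hom hL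
  have hcls : PicM.of hamp.1 = PicM.pull (pullback.fst A.hom s) (PicM.of hinvL) := by
    have e : (PicM.of (L := L.restrict (A.hom ⁻¹ᵁ V).ι) (hL.2 ⟨V, hV⟩).1) = PicM.pull (A.hom ⁻¹ᵁ V).ι (PicM.of hinvL) := by
      rw [PicM.pull_of, PicM.of_eq_iff]
      exact ⟨(Scheme.Modules.restrictFunctorIsoPullback (A.hom ⁻¹ᵁ V).ι).app L⟩
    rw [← hj, ← PicM.pull_pull, ← e, PicM.pull_of]
  haveI : Finite {x : 𝟙_ (Over (Spec (CommRingCat.of Ω))) ⟶ AK |
      pb (𝟙 AK * (toUnit AK ≫ x)) (PicM.of hamp.1) = PicM.of hamp.1} :=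
    (finite_fixing_of_isAmple (A := AK) hamp).to_subtype
  refine Finite.of_injective (β := {x : 𝟙_ (Over (Spec (CommRingCat.of Ω))) ⟶ AK |
      pb (𝟙 AK * (toUnit AK ≫ x)) (PicM.of hamp.1) = PicM.of hamp.1})
    (fun y => ⟨bcPts s A (y ≫ i), by
      show pb _ _ = _
      rw [hcls]
      exact pull_translate_eq s hinvL (y ≫ i) ((hK.univ _ _).2 ⟨y, rfl⟩)⟩) fun y y' h => ?_
  haveI : Mono i := (Over.forget _).mono_of_mono_map (inferInstanceAs (Mono i.left))
  exact (cancel_mono i).1 ((bcPts_bijective s A).1 (congrArg Subtype.val h))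

/-- `K(L)` is finite over the base. -/
theorem isFinite_hom [IsProper A.hom] [Smooth A.hom] [GeometricallyConnected A.hom] {L : A.left.Modules}
    (hL : RelAmple.IsRelAmple A.hom L) {K : Over S} (i : K ⟶ A) (hK : ThetaGrp.IsKL A L i) : IsFinite K.hom := by
  haveI : IsClosedImmersion i.left := hK.closed
  haveI : IsProper K.hom := by rw [← Over.w i]; infer_instance
  haveI : LocallyQuasiFinite K.hom := by
    refine LocallyQuasiFinite.of_finite_preimage_singleton K.hom fun t => ?_
    let Ω := AlgebraicClosure (S.residueField t)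
    let s : Spec (CommRingCat.of Ω) ⟶ S :=
      Spec.map (CommRingCat.ofHom (algebraMap (S.residueField t) Ω)) ≫ S.fromSpecResidueField t
    haveI := finite_points hL i hK s
    let Z := pullback K.hom s
    haveI : JacobsonSpace Z := LocallyOfFiniteType.jacobsonSpace (pullback.snd K.hom s)
    have hclosed : (closedPoints Z).Finite := by
      refine (Set.finite_range (fun y : Over.mk s ⟶ K =>
        (pullback.lift y.left (𝟙 _) (by rw [Category.id_comp]; exact Over.w y) : Spec (CommRingCat.of Ω) ⟶ Z)
          (IsLocalRing.closedPoint Ω))).subset fun z hz => ?_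
      refine ⟨Over.homMk (pointOfClosedPoint (pullback.snd K.hom s) z hz ≫ pullback.fst K.hom s) (by
        rw [Category.assoc, pullback.condition, pointOfClosedPoint_comp_assoc]; rfl), ?_⟩
      refine Eq.trans ?_ (pointOfClosedPoint_apply (pullback.snd K.hom s) z hz (IsLocalRing.closedPoint Ω))
      exact congrArg (fun q : Spec (CommRingCat.of Ω) ⟶ Z => q (IsLocalRing.closedPoint Ω))
        (pullback.hom_ext (pullback.lift_fst _ _ _)
          ((pullback.lift_snd _ _ _).trans (pointOfClosedPoint_comp _ _ _).symm))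
    have hfin : Finite Z := by
      have h := closure_closedPoints (X := Z)
      have hcl : IsClosed (closedPoints Z) := by
        rw [← Set.biUnion_of_singleton (closedPoints Z)]
        exact hclosed.isClosed_biUnion fun z hz => hz
      rw [hcl.closure_eq] at h
      exact Set.finite_univ_iff.1 (h ▸ hclosed)
    refine (Set.finite_range (pullback.fst K.hom s : Z ⟶ K.left)).subset fun x hx => ?_
    obtain ⟨w, hw, -⟩ := Scheme.Pullback.exists_preimage_pullback (f := K.hom) (g := s) x (IsLocalRing.closedPoint Ω)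
      (by rw [Scheme.Hom.comp_apply]; exact hx.trans (Scheme.fromSpecResidueField_apply _ _).symm)
    exact ⟨w, hw⟩
  exact IsFinite.of_isProper_of_locallyQuasiFinite _

end Groth.Agent.AbSchLib.FiniteKL
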