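import Mathlib.RingTheory.TensorProduct.DirectLimitFG
import Mathlib.RingTheory.FinitePresentation
import Mathlib.RingTheory.TensorProduct.Maps

/-!
# Descending elements, equalities and homomorphisms to finitely generated subalgebras
-/

universe u

namespace Groth.Agent.AbSchLib

open TensorProduct

variable {R A : Type u} [CommRing R] [CommRing A] [Algebra R A] {N : Type u} [CommRing N] [Algebra R N]

/-- `A₁ ⊗ N → A₂ ⊗ N`. -/
noncomputable abbrev stageIncl {A₁ A₂ : Subalgebra R A} (h : A₁ ≤ A₂) : A₁ ⊗[R] N →ₐ[R] A₂ ⊗[R] N :=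
  Algebra.TensorProduct.map (Subalgebra.inclusion h) (AlgHom.id R N)

variable (N) in
/-- `A₁ ⊗ N → A ⊗ N`. -/
noncomputable abbrev stageVal (A₁ : Subalgebra R A) : A₁ ⊗[R] N →ₐ[R] A ⊗[R] N :=
  Algebra.TensorProduct.map A₁.val (AlgHom.id R N)

theorem stageVal_incl {A₁ A₂ : Subalgebra R A} (h : A₁ ≤ A₂) (x : A₁ ⊗[R] N) :
    stageVal N A₂ (stageIncl h x) = stageVal N A₁ x := by
  induction x using TensorProduct.induction_on with
  | zero => simp
  | tmul a b => simp
  | add x y hx hy => simp only [map_add, hx, hy]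

theorem stageIncl_incl {A₁ A₂ A₃ : Subalgebra R A} (h : A₁ ≤ A₂) (h' : A₂ ≤ A₃) (x : A₁ ⊗[R] N) :
    stageIncl h' (stageIncl h x) = stageIncl (h.trans h') x := by
  induction x using TensorProduct.induction_on with
  | zero => simp
  | tmul a b => simp
  | add x y hx hy => simp only [map_add, hx, hy]

theorem stageVal_eq_rTensor (A₁ : Subalgebra R A) (x : A₁ ⊗[R] N) :
    stageVal N A₁ x = LinearMap.rTensor N A₁.val.toLinearMap x := by
  induction x using TensorProduct.induction_on with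
  | zero => simp
  | tmul a b => simp
  | add x y hx hy => simp only [map_add, hx, hy]

theorem stageIncl_eq_rTensor {A₁ A₂ : Subalgebra R A} (h : A₁ ≤ A₂) (x : A₁ ⊗[R] N) :
    stageIncl h x = LinearMap.rTensor N (Subalgebra.inclusion h).toLinearMap x := by
  induction x using TensorProduct.induction_on with
  | zero => simp
  | tmul a b => simp
  | add x y hx hy => simp only [map_add, hx, hy]

theorem exists_stage_lift {ι : Type*} (s : Finset ι) (x : ι → A ⊗[R] N) :
    ∃ A₁ : Subalgebra R A, A₁.FG ∧ ∀ i ∈ s, ∃ y, stageVal N A₁ y = x i := by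
  classical
  induction s using Finset.induction with
  | empty => exact ⟨⊥, Subalgebra.fg_bot, by simp⟩
  | insert a s _ ih =>
    obtain ⟨A₁, hA₁, h⟩ := ih
    obtain ⟨A₂, hA₂, y, hy⟩ := TensorProduct.Algebra.exists_of_fg (x a)
    refine ⟨A₁ ⊔ A₂, hA₁.sup hA₂, fun i hi => ?_⟩
    rcases Finset.mem_insert.1 hi with rfl | hi
    · exact ⟨stageIncl (N := N) (le_sup_right : A₂ ≤ A₁ ⊔ A₂) y, by rw [stageVal_incl, stageVal_eq_rTensor]; exact hy⟩
    · obtain ⟨y, hy⟩ := h i hi
      exact ⟨stageIncl (N := N) (le_sup_left : A₁ ≤ A₁ ⊔ A₂) y, by rw [stageVal_incl, hy]⟩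

theorem exists_stage_eq {ι : Type*} (s : Finset ι) {A₁ : Subalgebra R A} (hA₁ : A₁.FG) (x y : ι → A₁ ⊗[R] N)
    (h : ∀ i ∈ s, stageVal N A₁ (x i) = stageVal N A₁ (y i)) :
    ∃ (A₂ : Subalgebra R A) (hle : A₁ ≤ A₂), A₂.FG ∧ ∀ i ∈ s, stageIncl hle (x i) = stageIncl hle (y i) := by
  classical
  induction s using Finset.induction with
  | empty => exact ⟨A₁, le_rfl, hA₁, by simp⟩
  | insert a s _ ih =>
    obtain ⟨A₂, hle, hA₂, h2⟩ := ih (fun i hi => h i (Finset.mem_insert_of_mem hi))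
    have ha := h a (Finset.mem_insert_self a s)
    rw [← stageVal_incl hle, ← stageVal_incl hle (y a), stageVal_eq_rTensor, stageVal_eq_rTensor] at ha
    obtain ⟨A₃, hle', hA₃, h3⟩ := TensorProduct.Algebra.eq_of_fg_of_subtype_eq hA₂ ha
    refine ⟨A₃, hle.trans hle', hA₃, fun i hi => ?_⟩
    rw [← stageIncl_incl hle hle', ← stageIncl_incl hle hle' (y i)]
    rcases Finset.mem_insert.1 hi with rfl | hi
    · rw [stageIncl_eq_rTensor hle', stageIncl_eq_rTensor hle']; exact h3
    · rw [h2 i hi]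

variable {M : Type u} [CommRing M] [Algebra R M] [Algebra.FinitePresentation R M]

theorem exists_stage_hom (f : M →ₐ[R] A ⊗[R] N) :
    ∃ A₁ : Subalgebra R A, A₁.FG ∧ ∃ f₁ : M →ₐ[R] A₁ ⊗[R] N, (stageVal N A₁).comp f₁ = f := by
  obtain ⟨n, π, hπ, hker⟩ := Algebra.FinitePresentation.out (R := R) (A := M)
  obtain ⟨A₁, hA₁, hy⟩ := exists_stage_lift Finset.univ (fun i : Fin n => f (π (MvPolynomial.X i)))
  choose y hy using fun i => hy i (Finset.mem_univ i)
  obtain ⟨T, hT⟩ := hker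
  have hval : (stageVal N A₁).comp (MvPolynomial.aeval y) = f.comp π := by
    ext i
    simp [hy]
  have hrel : ∀ t ∈ T, stageVal N A₁ (MvPolynomial.aeval y t) = stageVal N A₁ 0 := by
    intro t ht
    rw [map_zero, ← AlgHom.comp_apply, hval, AlgHom.comp_apply,
      show π t = 0 from RingHom.mem_ker.1 (hT ▸ Submodule.subset_span ht : t ∈ RingHom.ker π.toRingHom), map_zero]
  obtain ⟨A₂, hle, hA₂, h2⟩ := exists_stage_eq T hA₁ (fun t => MvPolynomial.aeval y t) (fun _ => 0) hrel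
  have hk : ∀ x, π x = 0 → ((stageIncl hle).comp (MvPolynomial.aeval y)) x = 0 := by
    intro x hx
    have hx' : x ∈ RingHom.ker π.toRingHom := hx
    rw [← hT] at hx'
    have hle2 : Submodule.span _ (T : Set (MvPolynomial (Fin n) R)) ≤
        RingHom.ker ((stageIncl hle).comp (MvPolynomial.aeval y)).toRingHom :=
      Submodule.span_le.2 fun t ht => by
        rw [SetLike.mem_coe, RingHom.mem_ker]
        exact (h2 t ht).trans (map_zero _)
    exact hle2 hx'
  let f₁ : M →ₐ[R] A₂ ⊗[R] N :=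
    (Ideal.Quotient.liftₐ (RingHom.ker π) ((stageIncl hle).comp (MvPolynomial.aeval y)) hk).comp
      (Ideal.quotientKerAlgEquivOfSurjective hπ).symm.toAlgHom
  refine ⟨A₂, hA₂, f₁, ?_⟩
  refine AlgHom.ext fun m => ?_
  obtain ⟨x, rfl⟩ := hπ m
  have e : (Ideal.quotientKerAlgEquivOfSurjective hπ).symm (π x) = Ideal.Quotient.mk _ x := by
    rw [AlgEquiv.symm_apply_eq]
    rfl
  simp only [f₁, AlgHom.comp_apply, AlgEquiv.coe_toAlgHom, e, Ideal.Quotient.liftₐ_apply, Ideal.Quotient.lift_mk]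
  show stageVal N A₂ (stageIncl hle (MvPolynomial.aeval y x)) = f (π x)
  rw [stageVal_incl, ← AlgHom.comp_apply, hval, AlgHom.comp_apply]

end Groth.Agent.AbSchLib
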