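import Groth.Agent.FlatCrit.Tor
import Mathlib.LinearAlgebra.TensorProduct.Vanishing
import Mathlib.LinearAlgebra.DirectSum.Finsupp
import Mathlib.LinearAlgebra.TensorProduct.RightExactness
import Mathlib.RingTheory.LocalRing.MaximalIdeal.Basic
import Mathlib.RingTheory.Ideal.Maps

/-!
# Vanishing of `Tor₁` after an extension of scalars that kills the relevant kernel
-/

universe u

namespace Groth.Agent.AbSchLib

open TensorProduct Function

variable {R S : Type u} [CommRing R] [CommRing S] [Algebra R S] (p : Ideal R)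

/-- `p → pS`. -/
noncomputable def toExt : p →ₗ[R] (p.map (algebraMap R S)).restrictScalars R :=
  (Algebra.linearMap R S ∘ₗ p.subtype).codRestrict _ fun a => Ideal.mem_map_of_mem _ a.2

/-- Multiplication by `s` on `pS`. -/
noncomputable def mulExt (s : S) :
    (p.map (algebraMap R S)).restrictScalars R →ₗ[R] (p.map (algebraMap R S)).restrictScalars R :=
  ((LinearMap.mulLeft R s) ∘ₗ ((p.map (algebraMap R S)).restrictScalars R).subtype).codRestrict _
    fun a => Ideal.mul_mem_left _ s a.2

variable (M : Type u) [AddCommGroup M] [Module R M]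

/-- Injectivity after tensoring from a presentation of the target which is compatible modulo `p`. -/
theorem rTensor_injective_of_presentation [p.IsMaximal] {P Q J S' : Type u}
    [AddCommGroup P] [Module R P] [AddCommGroup Q] [Module R Q] [AddCommGroup J] [Module R J]
    [AddCommGroup S'] [Module R S'] (β : Q →ₗ[R] P) (π : P →ₗ[R] S') (γ : Q →ₗ[R] J) (ι : J →ₗ[R] S')
    (hc : ι ∘ₗ γ = π ∘ₗ β) (hπ : Surjective π) (hγ : Surjective γ) (hι : Injective ι)
    (hrange : ∀ r ∈ p, ∀ x : P, r • x ∈ LinearMap.range β)
    (hker : ∀ d, β.rTensor M d = 0 → γ.rTensor M d = 0) : Injective (ι.rTensor M) := by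
  rw [injective_iff_map_eq_zero]
  intro w hw
  obtain ⟨w', rfl⟩ := LinearMap.rTensor_surjective M hγ w
  rw [← LinearMap.comp_apply, ← LinearMap.rTensor_comp, hc, LinearMap.rTensor_comp, LinearMap.comp_apply] at hw
  let N := LinearMap.ker π
  have hexN : Exact (N.subtype.rTensor M) (π.rTensor M) :=
    rTensor_exact M (LinearMap.exact_subtype_ker_map π) hπ
  obtain ⟨η, hη⟩ := (hexN _).1 hw
  -- reduce modulo `p`
  let q : P →ₗ[R] P ⧸ LinearMap.range β := (LinearMap.range β).mkQ
  let Nbar := LinearMap.range (q ∘ₗ N.subtype)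
  have hkill : ∀ r ∈ p, ∀ b : P ⧸ LinearMap.range β, r • b = 0 := by
    intro r hr b
    obtain ⟨x, rfl⟩ := Submodule.Quotient.mk_surjective _ b
    rw [← Submodule.Quotient.mk_smul, Submodule.Quotient.mk_eq_zero]
    exact hrange r hr x
  have hinjbar : Injective (Nbar.subtype.rTensor M) :=
    Groth.Agent.FlatCrit.quotFlat_of_field p Nbar.subtype hkill Subtype.val_injective
  let qN : N →ₗ[R] Nbar := (q ∘ₗ N.subtype).rangeRestrict
  have hqη : qN.rTensor M η = 0 := by
    apply hinjbar
    rw [map_zero, ← LinearMap.comp_apply, ← LinearMap.rTensor_comp,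
      show Nbar.subtype ∘ₗ qN = q ∘ₗ N.subtype from LinearMap.subtype_comp_codRestrict _ _ _,
      LinearMap.rTensor_comp, LinearMap.comp_apply, hη, ← LinearMap.comp_apply, ← LinearMap.rTensor_comp,
      show q ∘ₗ β = 0 from LinearMap.ext fun z => (Submodule.Quotient.mk_eq_zero _).2 ⟨z, rfl⟩]
    simp
  have hexq : Exact ((LinearMap.ker qN).subtype.rTensor M) (qN.rTensor M) :=
    rTensor_exact M (LinearMap.exact_subtype_ker_map qN) (LinearMap.surjective_rangeRestrict _)
  obtain ⟨η', hη'⟩ := (hexq _).1 hqη
  -- lift to `ker γ`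
  let β' : LinearMap.ker γ →ₗ[R] LinearMap.ker qN :=
    ((β ∘ₗ (LinearMap.ker γ).subtype).codRestrict N (fun z => by
      show π (β z.1) = 0
      rw [← LinearMap.comp_apply, ← hc, LinearMap.comp_apply, LinearMap.mem_ker.1 z.2, map_zero])).codRestrict _
      (fun z => by
        rw [LinearMap.mem_ker]
        apply Subtype.ext
        exact (Submodule.Quotient.mk_eq_zero _).2 ⟨z.1, rfl⟩)
  have hβ' : Surjective β' := by
    rintro ⟨⟨x, hx⟩, hxq⟩
    have h1 : q x = 0 := congrArg Subtype.val (LinearMap.mem_ker.1 hxq)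
    obtain ⟨z, rfl⟩ := (Submodule.Quotient.mk_eq_zero _).1 h1
    refine ⟨⟨z, LinearMap.mem_ker.2 (hι ?_)⟩, rfl⟩
    rw [map_zero, ← LinearMap.comp_apply, hc]
    exact hx
  obtain ⟨ρ, hρ⟩ := LinearMap.rTensor_surjective M hβ' η'
  have hd : β.rTensor M (w' - (LinearMap.ker γ).subtype.rTensor M ρ) = 0 := by
    rw [map_sub, sub_eq_zero, ← hη, ← hη', ← hρ]
    simp only [← LinearMap.comp_apply, ← LinearMap.rTensor_comp]
    rfl
  have := hker _ hd
  rw [map_sub, sub_eq_zero] at this
  rw [this, ← LinearMap.comp_apply, ← LinearMap.rTensor_comp, LinearMap.comp_ker_subtype,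
    LinearMap.rTensor_zero, LinearMap.zero_apply]


/-- If the kernel of `p ⊗ M → M` dies in `pS ⊗ M`, then `pS ⊗ M → S ⊗ M` is injective. -/
theorem rTensor_injective_of_ker_vanish [p.IsMaximal]
    (hK : ∀ z : p ⊗[R] M, p.subtype.rTensor M z = 0 → (toExt (S := S) p).rTensor M z = 0) :
    Injective (((p.map (algebraMap R S)).restrictScalars R).subtype.rTensor M) := by
  classical
  set J := (p.map (algebraMap R S)).restrictScalars R with hJ
  let π : (S →₀ R) →ₗ[R] S := Finsupp.linearCombination R id
  let β : p ⊗[R] (S →₀ R) →ₗ[R] (S →₀ R) := TensorProduct.lift ((LinearMap.lsmul R (S →₀ R)).comp p.subtype)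
  have hβ : ∀ (a : p) (x : S →₀ R), β (a ⊗ₜ x) = (a : R) • x := fun a x => rfl
  let γ : p ⊗[R] (S →₀ R) →ₗ[R] J := (π ∘ₗ β).codRestrict J (fun z => by
    induction z using TensorProduct.induction_on with
    | zero => simp
    | tmul a x =>
      show π ((a : R) • x) ∈ p.map (algebraMap R S)
      rw [map_smul, Algebra.smul_def]
      exact Ideal.mul_mem_right _ _ (Ideal.mem_map_of_mem _ a.2)
    | add x y hx hy => rw [map_add]; exact J.add_mem hx hy)
  have hπ1 : ∀ s : S, π (Finsupp.single s 1) = s := fun s => by simp [π]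
  have hγs : Surjective γ := by
    rintro ⟨w, hw⟩
    have hw' : w ∈ p.map (algebraMap R S) := hw
    rw [Ideal.map] at hw'
    suffices ∃ z, π (β z) = w by
      obtain ⟨z, hz⟩ := this; exact ⟨z, Subtype.ext hz⟩
    clear hw
    induction hw' using Submodule.span_induction with
    | mem x hx =>
      obtain ⟨a, ha, rfl⟩ := hx
      exact ⟨(⟨a, ha⟩ : p) ⊗ₜ Finsupp.single 1 1, by rw [hβ, map_smul, hπ1, Algebra.algebraMap_eq_smul_one]⟩
    | zero => exact ⟨0, by simp⟩
    | add x y _ _ hx hy =>
      obtain ⟨z, rfl⟩ := hx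
      obtain ⟨z', rfl⟩ := hy
      exact ⟨z + z', by simp⟩
    | smul s x hx' hx =>
      obtain ⟨z, rfl⟩ := hx
      clear hx' hK
      induction z using TensorProduct.induction_on with
      | zero => exact ⟨0, by simp⟩
      | tmul a f =>
        refine ⟨a ⊗ₜ f.mapDomain (s * ·), ?_⟩
        rw [hβ, hβ, map_smul, map_smul, smul_eq_mul, mul_smul_comm]
        congr 1
        induction f using Finsupp.induction_linear with
        | zero => simp
        | add f g hf hg => rw [Finsupp.mapDomain_add, map_add, map_add, hf, hg, mul_add]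
        | single t c => simp [π, Finsupp.mapDomain_single]
      | add x y hx hy =>
        obtain ⟨a, ha⟩ := hx
        obtain ⟨b, hb⟩ := hy
        exact ⟨a + b, by simp only [map_add, ha, hb, smul_eq_mul, mul_add]⟩
  -- elements of `(p ⊗ P) ⊗ M` as families indexed by `S`
  let Φ : (S →₀ p ⊗[R] M) →ₗ[R] (p ⊗[R] (S →₀ R)) ⊗[R] M :=
    Finsupp.lsum R (fun s => LinearMap.rTensor M ((TensorProduct.mk R p (S →₀ R)).flip (Finsupp.single s 1)))
  have hΦ : Surjective Φ := by
    intro d
    induction d using TensorProduct.induction_on with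
    | zero => exact ⟨0, map_zero _⟩
    | tmul z m =>
      induction z using TensorProduct.induction_on with
      | zero => exact ⟨0, by simp⟩
      | tmul a f =>
        induction f using Finsupp.induction_linear with
        | zero => exact ⟨0, by simp⟩
        | add f g hf hg =>
          obtain ⟨x, hx⟩ := hf; obtain ⟨y, hy⟩ := hg
          exact ⟨x + y, by rw [map_add, hx, hy, tmul_add, add_tmul]⟩
        | single s c =>
          refine ⟨Finsupp.single s ((c • a) ⊗ₜ m), ?_⟩
          simp only [Φ, Finsupp.lsum_single, LinearMap.rTensor_tmul, LinearMap.flip_apply, TensorProduct.mk_apply]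
          rw [smul_tmul, Finsupp.smul_single', mul_one]
      | add x y hx hy =>
        obtain ⟨a, ha⟩ := hx; obtain ⟨b, hb⟩ := hy
        exact ⟨a + b, by rw [map_add, ha, hb, add_tmul]⟩
    | add x y hx hy =>
      obtain ⟨a, ha⟩ := hx; obtain ⟨b, hb⟩ := hy
      exact ⟨a + b, by rw [map_add, ha, hb]⟩
  -- the kernel of `β ⊗ M` dies in `J ⊗ M`
  have hker : ∀ d, β.rTensor M d = 0 → γ.rTensor M d = 0 := by
    intro d hd
    obtain ⟨z, rfl⟩ := hΦ d
    let Ψ := (TensorProduct.finsuppScalarLeft R M S).toLinearMap
    have h1 : Ψ ∘ₗ β.rTensor M ∘ₗ Φ = Finsupp.mapRange.linearMap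
        ((TensorProduct.lid R M).toLinearMap ∘ₗ p.subtype.rTensor M) := by
      ext s a m t
      simp [Ψ, Φ, hβ, TensorProduct.finsuppScalarLeft_apply_tmul_apply, Finsupp.single_apply]
    have h2 : ∀ t, p.subtype.rTensor M (z t) = 0 := by
      intro t
      have := congrArg (fun f => f z t) h1
      simp only [LinearMap.comp_apply, Finsupp.mapRange.linearMap_apply, Finsupp.mapRange_apply] at this
      rw [hd, map_zero, Finsupp.zero_apply] at this
      exact (TensorProduct.lid R M).injective (this.symm.trans (map_zero _).symm)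
    rw [← Finsupp.sum_single z, Finsupp.sum, map_sum, map_sum]
    refine Finset.sum_eq_zero fun t _ => ?_
    have h3 : γ.rTensor M ∘ₗ LinearMap.rTensor M ((TensorProduct.mk R p (S →₀ R)).flip (Finsupp.single t 1)) =
        (mulExt p t).rTensor M ∘ₗ (toExt (S := S) p).rTensor M := by
      rw [← LinearMap.rTensor_comp, ← LinearMap.rTensor_comp]
      congr 1
      ext a
      show π ((a : R) • Finsupp.single t 1) = t * algebraMap R S a
      rw [map_smul, hπ1, Algebra.smul_def, mul_comm]
    simp only [Φ, Finsupp.lsum_single]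
    rw [← LinearMap.comp_apply, h3, LinearMap.comp_apply, hK _ (h2 t), map_zero]
  refine rTensor_injective_of_presentation p M β π γ J.subtype (LinearMap.subtype_comp_codRestrict _ _ _)
    (fun s => ⟨_, hπ1 s⟩) hγs Subtype.val_injective (fun r hr x => ⟨(⟨r, hr⟩ : p) ⊗ₜ x, hβ _ _⟩) hker

variable [IsLocalRing S]

/-- The relation property for the base change of `M` to `S`. -/
theorem mem_maximalIdeal_smul_of_relation [p.IsMaximal]
    (hpm : p.map (algebraMap R S) ≤ IsLocalRing.maximalIdeal S)
    (hK : ∀ z : p ⊗[R] M, p.subtype.rTensor M z = 0 → (toExt (S := S) p).rTensor M z = 0)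
    (n : ℕ) {r : ℕ} {b : Fin r → S} (hb : IsLocalRing.maximalIdeal S ^ n = Ideal.span (Set.range b))
    (hmin : ∀ a : Fin r → S, ∑ i, a i * b i = 0 → ∀ i, a i ∈ IsLocalRing.maximalIdeal S)
    {u : Fin r → S ⊗[R] M} (hu : ∑ i, b i • u i = 0) (i : Fin r) :
    u i ∈ IsLocalRing.maximalIdeal S • (⊤ : Submodule S (S ⊗[R] M)) := by
  classical
  set I := p.map (algebraMap R S) with hI
  have h1 : Injective (I.subtype.rTensor (S ⊗[R] M)) := by
    let e₁ := AlgebraTensorModule.cancelBaseChange R S S I M
    let e₂ := AlgebraTensorModule.cancelBaseChange R S S S M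
    let e₀ : I ≃ₗ[R] I.restrictScalars R := LinearEquiv.refl R _
    have hc : ∀ z, e₂ (I.subtype.rTensor (S ⊗[R] M) z) =
        (I.restrictScalars R).subtype.rTensor M (e₀.toLinearMap.rTensor M (e₁ z)) := by
      intro z
      induction z using TensorProduct.induction_on with
      | zero => simp
      | tmul a y =>
        induction y using TensorProduct.induction_on with
        | zero => simp
        | tmul s m =>
          simp only [e₁, e₂, LinearMap.rTensor_tmul, AlgebraTensorModule.cancelBaseChange_tmul]
          rfl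
        | add x y hx hy => simp only [tmul_add, map_add, hx, hy]
      | add x y hx hy => simp only [map_add, hx, hy]
    intro x y hxy
    apply e₁.injective
    have := congrArg e₂ hxy
    rw [hc, hc] at this
    exact (e₀.rTensor M).injective (rTensor_injective_of_ker_vanish p M hK this)
  have h2 : Groth.Agent.FlatCrit.QuotFlat S (S ⊗[R] M) I := by
    intro A B _ _ _ _ f hB hf
    letI : Module R A := Module.compHom A (algebraMap R S)
    letI : Module R B := Module.compHom B (algebraMap R S)
    haveI : IsScalarTower R S A := IsScalarTower.of_algebraMap_smul fun _ _ => rfl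
    haveI : IsScalarTower R S B := IsScalarTower.of_algebraMap_smul fun _ _ => rfl
    let e₁ := AlgebraTensorModule.cancelBaseChange R S S A M
    let e₂ := AlgebraTensorModule.cancelBaseChange R S S B M
    have hc : ∀ z, e₂ (f.rTensor (S ⊗[R] M) z) = (f.restrictScalars R).rTensor M (e₁ z) := by
      intro z
      induction z using TensorProduct.induction_on with
      | zero => simp
      | tmul a y =>
        induction y using TensorProduct.induction_on with
        | zero => simp
        | tmul s m => simp [e₁, e₂]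
        | add x y hx hy => simp only [tmul_add, map_add, hx, hy]
      | add x y hx hy => simp only [map_add, hx, hy]
    have hinj : Injective ((f.restrictScalars R).rTensor M) :=
      Groth.Agent.FlatCrit.quotFlat_of_field p (f.restrictScalars R)
        (fun r hr b => by
          rw [← algebraMap_smul S r b]; exact hB _ (Ideal.mem_map_of_mem _ hr) b) hf
    intro x y hxy
    apply e₁.injective
    have := congrArg e₂ hxy
    rw [hc, hc] at this
    exact hinj this
  have hinj : Injective ((IsLocalRing.maximalIdeal S ^ n).subtype.rTensor (S ⊗[R] M)) := by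
    refine Groth.Agent.FlatCrit.rTensor_injective_of_coker_killed h1 h2 _ Subtype.val_injective n ?_
    intro r hr s
    rw [Submodule.range_subtype]
    exact Ideal.mul_mem_right _ _ (Ideal.pow_right_mono hpm n hr)
  let bb : Fin r → (IsLocalRing.maximalIdeal S ^ n : Ideal S) := fun j => ⟨b j, hb ▸ Ideal.subset_span ⟨j, rfl⟩⟩
  have hgen : Submodule.span S (Set.range bb) = ⊤ := by
    apply Submodule.map_injective_of_injective (f := (IsLocalRing.maximalIdeal S ^ n).subtype) Subtype.val_injective
    rw [Submodule.map_span, ← Set.range_comp, Submodule.map_subtype_top]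
    exact hb.symm
  have h0 : ∑ j, bb j ⊗ₜ[S] u j = 0 := by
    apply hinj
    rw [map_zero, map_sum]
    simp only [LinearMap.rTensor_tmul]
    apply (TensorProduct.lid S (S ⊗[R] M)).injective
    simp only [map_sum, TensorProduct.lid_tmul, map_zero]
    exact hu
  obtain ⟨κ, a, y, hy, ha⟩ := TensorProduct.vanishesTrivially_of_sum_tmul_eq_zero S hgen h0
  rw [hy i]
  refine Submodule.sum_mem _ fun j _ => Submodule.smul_mem_smul (hmin (fun k => a k j) ?_ i) Submodule.mem_top
  have := congrArg Subtype.val (ha j)
  simpa [bb, mul_comm] using this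

end Groth.Agent.AbSchLib
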