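import Groth.Agent.AbSchLib.FlatInduction
import Groth.Agent.AbSchLib.TorDescent
import Groth.Agent.AbSchLib.StageLemmas
import Mathlib.RingTheory.Filtration
import Mathlib.RingTheory.LocalRing.ResidueField.Basic
import Mathlib.RingTheory.Localization.AtPrime.Basic
import Mathlib.RingTheory.Localization.Submodule
import Mathlib.RingTheory.FiniteStability

/-!
# Rigidity of sections of a flat finitely presented algebra diagram over a local ring
-/

universe u

namespace Groth.Agent.AbSchLib

open TensorProduct IsLocalRing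

/-- The relation property of an `S`-module with respect to powers of the maximal ideal. -/
def HasRelProp (S : Type u) [CommRing S] [IsLocalRing S] (M : Type u) [AddCommGroup M] [Module S M] : Prop :=
  ∀ (n r : ℕ) (b : Fin r → S), maximalIdeal S ^ n = Ideal.span (Set.range b) →
    (∀ a : Fin r → S, ∑ i, a i * b i = 0 → ∀ i, a i ∈ maximalIdeal S) →
    ∀ u : Fin r → M, ∑ i, b i • u i = 0 → ∀ i, u i ∈ maximalIdeal S • (⊤ : Submodule S M)

section Induction

variable {S : Type u} [CommRing S] [IsLocalRing S] [IsNoetherianRing S] {J L : Type*}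
  (B : J → Type u) (C : L → Type u) [∀ j, CommRing (B j)] [∀ j, Algebra S (B j)]
  [∀ l, CommRing (C l)] [∀ l, Algebra S (C l)]
  (src tgt : L → J) (r₁ : ∀ l, B (src l) →ₐ[S] C l) (r₂ : ∀ l, B (tgt l) →ₐ[S] C l)

theorem mem_pow_smul_of_relations (hC : ∀ l, HasRelProp S (C l))
    (j₀ : J) (ψ : B j₀ →ₐ[S] S)
    (hfib : ∀ b : ∀ j, B j,
      (∀ l, r₁ l (b (src l)) - r₂ l (b (tgt l)) ∈ maximalIdeal S • (⊤ : Submodule S (C l))) →
      ψ (b j₀) ∈ maximalIdeal S → ∀ j, b j ∈ maximalIdeal S • (⊤ : Submodule S (B j)))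
    (s : ∀ j, B j) (hs : ∀ l, r₁ l (s (src l)) = r₂ l (s (tgt l))) (hψ : ψ (s j₀) = 0) (n : ℕ) :
    ∀ j, s j ∈ (maximalIdeal S ^ n) • (⊤ : Submodule S (B j)) := by
  induction n with
  | zero => intro j; rw [pow_zero, Ideal.one_eq_top, Submodule.top_smul]; trivial
  | succ n ih =>
    obtain ⟨r, b, hb, hmin⟩ := exists_minimal_generators (maximalIdeal S ^ n) (IsNoetherian.noetherian _)
    have hex : ∀ j, ∃ v : Fin r → B j, ∑ i, b i • v i = s j := by
      intro j
      have h := ih j
      rw [hb, Ideal.smul_top_eq_map, Submodule.restrictScalars_mem, Ideal.map_span, ← Set.range_comp] at h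
      obtain ⟨v, hv⟩ := (Submodule.mem_span_range_iff_exists_fun (B j)).1 h
      exact ⟨v, by rw [← hv]; exact Finset.sum_congr rfl fun i _ => by simp [Algebra.smul_def, mul_comm]⟩
    choose v hv using hex
    intro j
    rw [← hv j]
    refine Submodule.sum_mem _ fun i _ => ?_
    have hmem : v j i ∈ maximalIdeal S • (⊤ : Submodule S (B j)) := by
      refine hfib (fun j' => v j' i) (fun l => ?_) ?_ j
      · refine hC l n r b hb hmin (fun i => r₁ l (v (src l) i) - r₂ l (v (tgt l) i)) ?_ i
        simp only [smul_sub, Finset.sum_sub_distrib, ← map_smul, ← map_sum, hv, hs, sub_self]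
      · refine hmin (fun i => ψ (v j₀ i)) ?_ i
        rw [← hψ, ← hv j₀, map_sum]
        exact Finset.sum_congr rfl fun i _ => by rw [map_smul, smul_eq_mul, mul_comm]
    rw [pow_succ, Submodule.mul_smul]
    exact Submodule.smul_mem_smul (hb ▸ Ideal.subset_span ⟨i, rfl⟩) hmem

end Induction

section Kill

variable {R A : Type u} [CommRing R] [CommRing A] [Algebra R A] (p : Ideal R)

/-- Functoriality of `pS`. -/
noncomputable def extMap {S T : Type u} [CommRing S] [CommRing T] [Algebra R S] [Algebra R T] (f : S →ₐ[R] T) :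
    (p.map (algebraMap R S)).restrictScalars R →ₗ[R] (p.map (algebraMap R T)).restrictScalars R :=
  (f.toLinearMap ∘ₗ ((p.map (algebraMap R S)).restrictScalars R).subtype).codRestrict _ fun a => by
    have := Ideal.mem_map_of_mem f.toRingHom a.2
    rw [Ideal.map_map] at this
    erw [AlgHom.comp_algebraMap] at this
    exact this

theorem inclusion_mem_map {R₁ R₂ : Subalgebra R A} (h : R₁ ≤ R₂) {a : R₁} (ha : a ∈ p.map (algebraMap R R₁)) :
    Subalgebra.inclusion h a ∈ p.map (algebraMap R R₂) :=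
  (extMap p (Subalgebra.inclusion h) ⟨a, ha⟩).2

theorem extMap_comp_toExt {S T : Type u} [CommRing S] [CommRing T] [Algebra R S] [Algebra R T] (f : S →ₐ[R] T) :
    extMap p f ∘ₗ toExt (S := S) p = toExt (S := T) p := by
  ext a
  exact f.commutes (a : R)

variable (A) (M : Type u) [AddCommGroup M] [Module R M]

/-- A kernel element dies in `pA ⊗ M` when `M_A` is flat. -/
theorem toExt_eq_zero_of_flat [Module.Flat A (A ⊗[R] M)] (z : p ⊗[R] M) (hz : p.subtype.rTensor M z = 0) :
    (toExt (S := A) p).rTensor M z = 0 := by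
  set I := p.map (algebraMap R A)
  let e₁ := AlgebraTensorModule.cancelBaseChange R A A I M
  let e₂ := AlgebraTensorModule.cancelBaseChange R A A A M
  let e₀ : I ≃ₗ[R] I.restrictScalars R := LinearEquiv.refl R _
  have hinj : Function.Injective (I.subtype.rTensor (A ⊗[R] M)) :=
    Module.Flat.rTensor_preserves_injective_linearMap _ Subtype.val_injective
  have hc : ∀ z, e₂ (I.subtype.rTensor (A ⊗[R] M) z) =
      (I.restrictScalars R).subtype.rTensor M (e₀.toLinearMap.rTensor M (e₁ z)) := by
    intro z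
    induction z using TensorProduct.induction_on with
    | zero => simp
    | tmul a y =>
      induction y using TensorProduct.induction_on with
      | zero => simp
      | tmul s m => simp only [e₁, e₂, LinearMap.rTensor_tmul, AlgebraTensorModule.cancelBaseChange_tmul]; rfl
      | add x y hx hy => simp only [tmul_add, map_add, hx, hy]
    | add x y hx hy => simp only [map_add, hx, hy]
  obtain ⟨w, hw⟩ := (e₀.rTensor M).surjective ((toExt (S := A) p).rTensor M z)
  obtain ⟨w, rfl⟩ := e₁.surjective w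
  change e₀.toLinearMap.rTensor M (e₁ w) = _ at hw
  have h0 : (I.restrictScalars R).subtype.rTensor M ((toExt (S := A) p).rTensor M z) = 0 := by
    rw [← LinearMap.comp_apply, ← LinearMap.rTensor_comp,
      show (I.restrictScalars R).subtype ∘ₗ toExt (S := A) p = Algebra.linearMap R A ∘ₗ p.subtype from LinearMap.ext fun _ => rfl,
      LinearMap.rTensor_comp, LinearMap.comp_apply, hz, map_zero]
  rw [← hw, ← hc, ← map_zero e₂] at h0
  have hw0 : w = 0 := hinj (by rw [map_zero]; exact e₂.injective h0)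
  rw [← hw, hw0, map_zero, map_zero]

theorem exists_kill_one [Module.Flat A (A ⊗[R] M)] (hp : p.FG) (z : p ⊗[R] M) (hz : p.subtype.rTensor M z = 0) :
    ∃ R' : Subalgebra R A, R'.FG ∧ ∀ (S : Type u) [CommRing S] [Algebra R S] (_ : R' →ₐ[R] S),
      (toExt (S := S) p).rTensor M z = 0 := by
  classical
  have h0 := toExt_eq_zero_of_flat A p M z hz
  set P := LinearMap.range (toExt (S := A) p) with hP
  have : Module.Finite R p := Module.Finite.iff_fg.2 hp
  have hPfg : P.FG := by
    rw [hP, LinearMap.range_eq_map]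
    exact Submodule.FG.map _ Module.Finite.fg_top
  let t₀ := (toExt (S := A) p).rangeRestrict.rTensor M z
  have ht₀ : LinearMap.rTensor M P.subtype t₀ = 0 := by
    rw [← LinearMap.comp_apply, ← LinearMap.rTensor_comp]
    exact h0
  obtain ⟨Q, hPQ, ⟨T, hT⟩, hQ⟩ := TensorProduct.eq_zero_of_fg_of_subtype_eq_zero hPfg ht₀
  -- coefficients of the generators of `Q`
  have hcoef : ∀ x : (p.map (algebraMap R A)).restrictScalars R,
      ∃ R' : Subalgebra R A, R'.FG ∧ (x : A) ∈ Submodule.map R'.val.toLinearMap ((p.map (algebraMap R R')).restrictScalars R) := by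
    rintro ⟨x, hx⟩
    have hx' : x ∈ p.map (algebraMap R A) := hx
    rw [Ideal.map] at hx'
    show ∃ R' : Subalgebra R A, R'.FG ∧ x ∈ Submodule.map R'.val.toLinearMap ((p.map (algebraMap R R')).restrictScalars R)
    clear hx
    induction hx' using Submodule.span_induction with
    | mem x hx =>
      obtain ⟨a, ha, rfl⟩ := hx
      exact ⟨⊥, Subalgebra.fg_bot, algebraMap R _ a, Ideal.mem_map_of_mem _ ha, rfl⟩
    | zero => exact ⟨⊥, Subalgebra.fg_bot, 0, Submodule.zero_mem _, by simp⟩
    | add x y _ _ hx hy =>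
      obtain ⟨R₁, h₁, a, ha, rfl⟩ := hx
      obtain ⟨R₂, h₂, b, hb, rfl⟩ := hy
      refine ⟨R₁ ⊔ R₂, h₁.sup h₂, Subalgebra.inclusion le_sup_left a + Subalgebra.inclusion le_sup_right b,
        Ideal.add_mem _ (inclusion_mem_map p le_sup_left ha) (inclusion_mem_map p le_sup_right hb), ?_⟩
      simp
    | smul c x _ hx =>
      obtain ⟨R₁, h₁, a, ha, rfl⟩ := hx
      have h₂ : (Algebra.adjoin R {c}).FG := ⟨{c}, by simp⟩
      let c' : ↥(R₁ ⊔ Algebra.adjoin R {c}) :=
        Subalgebra.inclusion le_sup_right ⟨c, Algebra.self_mem_adjoin_singleton R c⟩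
      refine ⟨R₁ ⊔ Algebra.adjoin R {c}, h₁.sup h₂,
        c' * Subalgebra.inclusion le_sup_left a,
        Ideal.mul_mem_left _ _ (inclusion_mem_map p le_sup_left ha), ?_⟩
      simp [c']
  choose R₁ hR₁fg hR₁ using hcoef
  let R' := T.sup R₁
  have hR'fg : R'.FG := Finset.sup_induction (p := fun S : Subalgebra R A => S.FG) Subalgebra.fg_bot
    (fun a ha b hb => ha.sup hb) (fun x _ => hR₁fg x)
  refine ⟨R', hR'fg, fun S _ _ f => ?_⟩
  -- the map `Q → pR'`
  have hQle : ∀ x : Q, ∃ y : (p.map (algebraMap R R')).restrictScalars R, ((y : R') : A) = ((x : _) : A) := by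
    suffices ∀ x ∈ Submodule.span R (T : Set ((p.map (algebraMap R A)).restrictScalars R)),
        ∃ y : (p.map (algebraMap R R')).restrictScalars R, ((y : R') : A) = (x : A) from
      fun x => this x.1 (by rw [hT]; exact x.2)
    intro x hx
    induction hx using Submodule.span_induction with
    | mem x hx =>
      obtain ⟨y, hy, hyx⟩ := hR₁ x
      refine ⟨extMap p (Subalgebra.inclusion (Finset.le_sup hx)) ⟨y, hy⟩, ?_⟩
      rw [← hyx]; rfl
    | zero => exact ⟨0, rfl⟩
    | add x y _ _ hx hy =>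
      obtain ⟨a, ha⟩ := hx; obtain ⟨b, hb⟩ := hy
      exact ⟨a + b, by simp [ha, hb]⟩
    | smul c x _ hx =>
      obtain ⟨a, ha⟩ := hx
      exact ⟨c • a, by simp [ha]⟩
  choose g hg using hQle
  let gl : Q →ₗ[R] (p.map (algebraMap R R')).restrictScalars R :=
    { toFun := g
      map_add' := fun x y => by
        apply Subtype.ext; apply Subtype.ext
        simp [hg]
      map_smul' := fun c x => by
        apply Subtype.ext; apply Subtype.ext
        simp [hg] }
  have hcomp : gl ∘ₗ Submodule.inclusion hPQ ∘ₗ (toExt (S := A) p).rangeRestrict = toExt (S := R') p := by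
    refine LinearMap.ext fun a => Subtype.ext (Subtype.ext ?_)
    exact hg _
  have hkey : (toExt (S := R') p).rTensor M z = 0 := by
    rw [← hcomp, LinearMap.rTensor_comp, LinearMap.rTensor_comp, LinearMap.comp_apply, LinearMap.comp_apply]
    rw [hQ, map_zero]
  rw [← extMap_comp_toExt p f, LinearMap.rTensor_comp, LinearMap.comp_apply, hkey, map_zero]

theorem exists_kill [IsNoetherianRing R] (M : Type u) [CommRing M] [Algebra R M] [Algebra.FiniteType R M]
    [Module.Flat A (A ⊗[R] M)] :
    ∃ R' : Subalgebra R A, R'.FG ∧ ∀ (S : Type u) [CommRing S] [Algebra R S] (_ : R' →ₐ[R] S),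
      ∀ z : p ⊗[R] M, p.subtype.rTensor M z = 0 → (toExt (S := S) p).rTensor M z = 0 := by
  classical
  have : IsNoetherianRing M := Algebra.FiniteType.isNoetherianRing R M
  have hp : p.FG := IsNoetherian.noetherian p
  have : Module.Finite R p := Module.Finite.iff_fg.2 hp
  let g : M ⊗[R] p →ₗ[M] M ⊗[R] R := AlgebraTensorModule.lTensor M M p.subtype
  obtain ⟨T, hT⟩ := IsNoetherian.noetherian (LinearMap.ker g)
  let sw : M ⊗[R] p →ₗ[R] p ⊗[R] M := (TensorProduct.comm R M p).toLinearMap
  have hmem : ∀ w ∈ T, p.subtype.rTensor M (sw w) = 0 := by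
    intro w hw
    have hg : g w = 0 := LinearMap.mem_ker.1 (hT ▸ Submodule.subset_span hw)
    have : ∀ w, p.subtype.rTensor M (sw w) = TensorProduct.comm R M R (g w) := by
      intro w
      induction w using TensorProduct.induction_on with
      | zero => simp
      | tmul a b => simp [g, sw]
      | add x y hx hy => simp only [map_add, hx, hy]
    rw [this, hg, map_zero]
  choose! R₁ hR₁fg hR₁ using fun w (hw : w ∈ T) => exists_kill_one A p M hp (sw w) (hmem w hw)
  refine ⟨T.sup R₁, Finset.sup_induction (p := fun S : Subalgebra R A => S.FG) Subalgebra.fg_bot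
    (fun a ha b hb => ha.sup hb) hR₁fg, fun S _ _ f z hz => ?_⟩
  obtain ⟨w, rfl⟩ : ∃ w, sw w = z := (TensorProduct.comm R M p).surjective z
  let h : M ⊗[R] p →ₗ[M] M ⊗[R] ((p.map (algebraMap R S)).restrictScalars R) :=
    AlgebraTensorModule.lTensor M M (toExt (S := S) p)
  have hh : ∀ w, TensorProduct.comm R M _ (h w) = (toExt (S := S) p).rTensor M (sw w) := by
    intro w
    induction w using TensorProduct.induction_on with
    | zero => simp
    | tmul a b => simp [h, sw]
    | add x y hx hy => simp only [map_add, hx, hy]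
  have hgw : w ∈ LinearMap.ker g := by
    rw [LinearMap.mem_ker]
    apply (TensorProduct.comm R M R).injective
    have : p.subtype.rTensor M (sw w) = TensorProduct.comm R M R (g w) := by
      clear hz hh
      induction w using TensorProduct.induction_on with
      | zero => simp
      | tmul a b => simp [g, sw]
      | add x y hx hy => simp only [map_add, hx, hy]
    rw [← this, hz, map_zero]
  have hle : LinearMap.ker g ≤ LinearMap.ker h := by
    rw [← hT, Submodule.span_le]
    intro v hv
    rw [SetLike.mem_coe, LinearMap.mem_ker]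
    apply (TensorProduct.comm R M _).injective
    rw [hh, map_zero]
    exact hR₁ v hv S (f.comp (Subalgebra.inclusion (Finset.le_sup hv)))
  rw [← hh, LinearMap.mem_ker.1 (hle hgw), map_zero]

end Kill

theorem atPrime_map_eq_zero {T U : Type u} [CommRing T] [IsNoetherianRing T] [CommRing U] (f : T →+* U)
    (q : Ideal U) [q.IsPrime] (x : T) (h : ∀ n, x ∈ (q.comap f) ^ n) :
    algebraMap U (Localization.AtPrime q) (f x) = 0 := by
  have : IsNoetherianRing (Localization.AtPrime (q.comap f)) :=
    IsLocalization.isNoetherianRing (q.comap f).primeCompl _ inferInstance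
  have hzero : algebraMap T (Localization.AtPrime (q.comap f)) x = 0 := by
    have hb := Ideal.iInf_pow_eq_bot_of_isLocalRing (maximalIdeal (Localization.AtPrime (q.comap f)))
      (maximalIdeal.isMaximal _).ne_top
    refine Ideal.mem_bot.1 (hb ▸ (Submodule.mem_iInf _).2 fun n => ?_)
    have h2 := Ideal.mem_map_of_mem (algebraMap T (Localization.AtPrime (q.comap f))) (h n)
    rwa [Ideal.map_pow, Localization.AtPrime.map_eq_maximalIdeal] at h2
  rw [← Localization.localRingHom_to_map (q.comap f) q f rfl x, hzero, map_zero]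

theorem stage_mem_of_map_mem {R A S M : Type u} [CommRing R] [IsLocalRing R] [CommRing A] [IsLocalRing A]
    [CommRing S] [IsLocalRing S] [Algebra R A] [IsLocalHom (algebraMap R A)] [Algebra R S]
    [CommRing M] [Algebra R M] (v : S →ₐ[R] A) (hmax : ∀ x : S, x ∈ maximalIdeal S ↔ v x ∈ maximalIdeal A)
    (x : S ⊗[R] M)
    (hx : Algebra.TensorProduct.map v (AlgHom.id R M) x ∈ maximalIdeal A • (⊤ : Submodule A (A ⊗[R] M))) :
    x ∈ maximalIdeal S • (⊤ : Submodule S (S ⊗[R] M)) := by
  let qS : S →ₗ[R] S ⧸ (maximalIdeal S).restrictScalars R := Submodule.mkQ _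
  let qA : A →ₗ[R] A ⧸ (maximalIdeal A).restrictScalars R := Submodule.mkQ _
  let κ : S ⧸ (maximalIdeal S).restrictScalars R →ₗ[R] A ⧸ (maximalIdeal A).restrictScalars R :=
    Submodule.mapQ _ _ v.toLinearMap (fun a ha => (hmax a).1 ha)
  have hκ : Function.Injective κ := by
    rw [injective_iff_map_eq_zero]
    intro a ha
    obtain ⟨a, rfl⟩ := Submodule.Quotient.mk_surjective _ a
    rw [Submodule.mapQ_apply, Submodule.Quotient.mk_eq_zero] at ha
    exact (Submodule.Quotient.mk_eq_zero _).2 ((hmax a).2 ha)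
  have hκB : Function.Injective (κ.rTensor M) := by
    refine Groth.Agent.FlatCrit.quotFlat_of_field (maximalIdeal R) κ (fun r hr b => ?_) hκ
    obtain ⟨b, rfl⟩ := Submodule.Quotient.mk_surjective _ b
    rw [← Submodule.Quotient.mk_smul, Submodule.Quotient.mk_eq_zero]
    show r • b ∈ maximalIdeal A
    rw [Algebra.smul_def]
    exact Ideal.mul_mem_right _ _ (map_nonunit (algebraMap R A) r hr)
  have hA0 : qA.rTensor M (Algebra.TensorProduct.map v (AlgHom.id R M) x) = 0 := by
    have : ∀ y ∈ maximalIdeal A • (⊤ : Submodule A (A ⊗[R] M)), qA.rTensor M y = 0 := by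
      intro y hy
      refine Submodule.smul_induction_on hy (fun a ha w _ => ?_) (fun a b ha hb => by rw [map_add, ha, hb, add_zero])
      induction w using TensorProduct.induction_on with
      | zero => simp
      | tmul c b =>
        rw [TensorProduct.smul_tmul', smul_eq_mul, LinearMap.rTensor_tmul]
        have : qA (a * c) = 0 := (Submodule.Quotient.mk_eq_zero _).2 (Ideal.mul_mem_right _ _ ha)
        rw [this, zero_tmul]
      | add u v hu hv => rw [smul_add, map_add, hu Submodule.mem_top, hv Submodule.mem_top, add_zero]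
    exact this _ hx
  have hS0 : qS.rTensor M x = 0 := by
    apply hκB
    rw [map_zero, ← hA0, ← LinearMap.comp_apply, ← LinearMap.rTensor_comp]
    have e : κ ∘ₗ qS = qA ∘ₗ v.toLinearMap := LinearMap.ext fun a => rfl
    rw [e, LinearMap.rTensor_comp, LinearMap.comp_apply]
    rfl
  obtain ⟨y, hy⟩ := ((rTensor_exact (M := (maximalIdeal S).restrictScalars R) (N := S)
    (P := S ⧸ (maximalIdeal S).restrictScalars R) M (LinearMap.exact_subtype_mkQ _)
    (Submodule.mkQ_surjective _)) x).1 hS0
  rw [← hy]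
  clear hy hx hA0 hS0
  induction y using TensorProduct.induction_on with
  | zero => simp
  | tmul a b =>
    have : (a : S) ⊗ₜ[R] b = (a : S) • ((1 : S) ⊗ₜ[R] b) := by rw [TensorProduct.smul_tmul', smul_eq_mul, mul_one]
    rw [LinearMap.rTensor_tmul, Submodule.subtype_apply, this]
    exact Submodule.smul_mem_smul a.2 Submodule.mem_top
  | add u v hu hv =>
    rw [map_add]
    exact Submodule.add_mem _ hu hv

theorem stage_map_mem {R A S M : Type u} [CommRing R] [CommRing A] [IsLocalRing A]
    [CommRing S] [IsLocalRing S] [Algebra R A] [Algebra R S] [CommRing M] [Algebra R M] (v : S →ₐ[R] A)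
    (hmax : ∀ x : S, x ∈ maximalIdeal S ↔ v x ∈ maximalIdeal A) (x : S ⊗[R] M)
    (hx : x ∈ maximalIdeal S • (⊤ : Submodule S (S ⊗[R] M))) :
    Algebra.TensorProduct.map v (AlgHom.id R M) x ∈ maximalIdeal A • (⊤ : Submodule A (A ⊗[R] M)) := by
  refine Submodule.smul_induction_on hx (fun a ha w _ => ?_)
    (fun a b ha hb => by rw [map_add]; exact Submodule.add_mem _ ha hb)
  have key : ∀ w : S ⊗[R] M, Algebra.TensorProduct.map v (AlgHom.id R M) (a • w) =
      v a • Algebra.TensorProduct.map v (AlgHom.id R M) w := by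
    intro w
    induction w using TensorProduct.induction_on with
    | zero => simp
    | tmul c d => simp [TensorProduct.smul_tmul']
    | add x y hx hy => simp only [smul_add, map_add, hx, hy]
  rw [key]
  exact Submodule.smul_mem_smul ((hmax a).1 ha) Submodule.mem_top

theorem stage_map_comm {R A S M N : Type u} [CommRing R] [CommRing A] [CommRing S] [Algebra R A] [Algebra R S]
    [CommRing M] [Algebra R M] [CommRing N] [Algebra R N] (v : S →ₐ[R] A) (r : M →ₐ[R] N) (x : S ⊗[R] M) :
    Algebra.TensorProduct.map (AlgHom.id A A) r (Algebra.TensorProduct.map v (AlgHom.id R M) x) =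
      Algebra.TensorProduct.map v (AlgHom.id R N) (Algebra.TensorProduct.map (AlgHom.id S S) r x) := by
  induction x using TensorProduct.induction_on with
  | zero => simp
  | tmul a b => simp
  | add x y hx hy => simp only [map_add, hx, hy]

theorem stage_lift_comm {R A S M : Type u} [CommRing R] [CommRing A] [CommRing S] [Algebra R A] [Algebra R S]
    [CommRing M] [Algebra R M] (v : S →ₐ[R] A) (ψ : M →ₐ[R] R) (x : S ⊗[R] M) :
    Algebra.TensorProduct.lift (AlgHom.id A A) ((Algebra.ofId R A).comp ψ) (fun _ _ => Commute.all _ _)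
        (Algebra.TensorProduct.map v (AlgHom.id R M) x) =
      v (Algebra.TensorProduct.lift (AlgHom.id S S) ((Algebra.ofId R S).comp ψ) (fun _ _ => Commute.all _ _) x) := by
  induction x using TensorProduct.induction_on with
  | zero => simp
  | tmul a b => simp [Algebra.ofId_apply]
  | add x y hx hy => simp only [map_add, hx, hy]

theorem stage_map_algebraMap {R A S M : Type u} [CommRing R] [CommRing A] [CommRing S] [Algebra R A] [Algebra R S]
    [CommRing M] [Algebra R M] (v : S →ₐ[R] A) (a : S) :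
    Algebra.TensorProduct.map v (AlgHom.id R M) (algebraMap S (S ⊗[R] M) a) = algebraMap A (A ⊗[R] M) (v a) := by
  show Algebra.TensorProduct.map v (AlgHom.id R M) (a ⊗ₜ[R] (1 : M)) = v a ⊗ₜ[R] (1 : M)
  simp

section Model

variable {A R : Type u} [CommRing A] [IsLocalRing A] [CommRing R] [IsLocalRing R] [IsNoetherianRing R]
  [Algebra R A] [IsLocalHom (algebraMap R A)] {J L : Type} [Finite J] [Finite L]
  (B : J → Type u) (C : L → Type u) [∀ j, CommRing (B j)] [∀ j, Algebra R (B j)] [∀ j, Algebra.FiniteType R (B j)]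
  [∀ l, CommRing (C l)] [∀ l, Algebra R (C l)] [∀ l, Algebra.FiniteType R (C l)]
  [∀ j, Module.Flat A (A ⊗[R] B j)] [∀ l, Module.Flat A (A ⊗[R] C l)]
  (src tgt : L → J) (r₁ : ∀ l, B (src l) →ₐ[R] C l) (r₂ : ∀ l, B (tgt l) →ₐ[R] C l)

omit [IsNoetherianRing R] [Finite J] [Finite L] [∀ l, Algebra.FiniteType R (C l)] [∀ j, Module.Flat A (A ⊗[R] B j)] [∀ l, Module.Flat A (A ⊗[R] C l)] in
theorem atPrime_eq_zero_of_stage {S : Type u} [CommRing S] [IsLocalRing S] [IsNoetherianRing S] [Algebra R S] (v : S →ₐ[R] A)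
    (hmax : ∀ x : S, x ∈ maximalIdeal S ↔ v x ∈ maximalIdeal A) (hrelC : ∀ l, HasRelProp S (S ⊗[R] C l)) (j₀ : J) (ψ : B j₀ →ₐ[R] R)
    (hfib : ∀ b : ∀ j, A ⊗[R] B j,
      (∀ l, Algebra.TensorProduct.map (AlgHom.id A A) (r₁ l) (b (src l)) -
        Algebra.TensorProduct.map (AlgHom.id A A) (r₂ l) (b (tgt l)) ∈ maximalIdeal A • (⊤ : Submodule A (A ⊗[R] C l))) →
      Algebra.TensorProduct.lift (AlgHom.id A A) ((Algebra.ofId R A).comp ψ) (fun _ _ => Commute.all _ _) (b j₀) ∈ maximalIdeal A →
      ∀ j, b j ∈ maximalIdeal A • (⊤ : Submodule A (A ⊗[R] B j)))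
    (s : ∀ j, B j) (hs : ∀ l, r₁ l (s (src l)) = r₂ l (s (tgt l))) (hψ : ψ (s j₀) = 0)
    (j : J) (q : Ideal (A ⊗[R] B j)) [q.IsPrime] (hq : (maximalIdeal A).map (algebraMap A (A ⊗[R] B j)) ≤ q) :
    algebraMap (A ⊗[R] B j) (Localization.AtPrime q) ((1 : A) ⊗ₜ s j) = 0 := by
  let ψS : S ⊗[R] B j₀ →ₐ[S] S :=
    Algebra.TensorProduct.lift (AlgHom.id S S) ((Algebra.ofId R S).comp ψ) (fun _ _ => Commute.all _ _)
  let η : ∀ j, S ⊗[R] B j →ₐ[R] A ⊗[R] B j := fun j => Algebra.TensorProduct.map v (AlgHom.id R (B j))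
  have hfibS : ∀ b : ∀ j, S ⊗[R] B j,
      (∀ l, Algebra.TensorProduct.map (AlgHom.id S S) (r₁ l) (b (src l)) -
        Algebra.TensorProduct.map (AlgHom.id S S) (r₂ l) (b (tgt l)) ∈ maximalIdeal S • (⊤ : Submodule S (S ⊗[R] C l))) →
      ψS (b j₀) ∈ maximalIdeal S → ∀ j, b j ∈ maximalIdeal S • (⊤ : Submodule S (S ⊗[R] B j)) := by
    intro b hb hb0 j
    refine stage_mem_of_map_mem v hmax _ (hfib (fun j => η j (b j)) (fun l => ?_) ?_ j)
    · show Algebra.TensorProduct.map (AlgHom.id A A) (r₁ l) (Algebra.TensorProduct.map v (AlgHom.id R _) (b (src l))) -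
        Algebra.TensorProduct.map (AlgHom.id A A) (r₂ l) (Algebra.TensorProduct.map v (AlgHom.id R _) (b (tgt l))) ∈ _
      rw [stage_map_comm, stage_map_comm, ← map_sub]
      exact stage_map_mem v hmax _ (hb l)
    · show Algebra.TensorProduct.lift (AlgHom.id A A) ((Algebra.ofId R A).comp ψ) (fun _ _ => Commute.all _ _)
        (Algebra.TensorProduct.map v (AlgHom.id R _) (b j₀)) ∈ _
      rw [stage_lift_comm]
      exact (hmax _).1 hb0
  have hpow := mem_pow_smul_of_relations (S := S) (fun j => S ⊗[R] B j) (fun l => S ⊗[R] C l) src tgt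
    (fun l => Algebra.TensorProduct.map (AlgHom.id S S) (r₁ l)) (fun l => Algebra.TensorProduct.map (AlgHom.id S S) (r₂ l))
    hrelC j₀ ψS hfibS
    (fun j => (1 : S) ⊗ₜ s j) (fun l => by simp [hs]) (by simp [ψS, hψ])
  -- Krull intersection
  let q₁ : Ideal (S ⊗[R] B j) := q.comap (η j).toRingHom
  have : q₁.IsPrime := Ideal.IsPrime.comap _
  have : IsNoetherianRing (S ⊗[R] B j) := Algebra.FiniteType.isNoetherianRing S (S ⊗[R] B j)
  have hq₁ : (maximalIdeal S).map (algebraMap S (S ⊗[R] B j)) ≤ q₁ := by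
    rw [Ideal.map_le_iff_le_comap]
    intro a ha
    refine hq ?_
    have : η j (algebraMap S (S ⊗[R] B j) a) = algebraMap A (A ⊗[R] B j) (v a) := stage_map_algebraMap v a
    show η j (algebraMap S (S ⊗[R] B j) a) ∈ _
    rw [this]
    exact Ideal.mem_map_of_mem _ ((hmax a).1 ha)
  have hfin := atPrime_map_eq_zero (η j).toRingHom q ((1 : S) ⊗ₜ s j) fun n => by
    have h := hpow n j
    rw [Ideal.smul_top_eq_map, Submodule.restrictScalars_mem, Ideal.map_pow] at h
    exact Ideal.pow_right_mono hq₁ n h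
  have h1 : η j ((1 : S) ⊗ₜ[R] s j) = (1 : A) ⊗ₜ[R] s j := by
    rw [Algebra.TensorProduct.map_tmul, map_one]; rfl
  rw [← h1]
  exact hfin

/-- Rigidity over a general local ring, given a Noetherian model. -/
theorem atPrime_eq_zero_of_model (j₀ : J) (ψ : B j₀ →ₐ[R] R)
    (hfib : ∀ b : ∀ j, A ⊗[R] B j,
      (∀ l, Algebra.TensorProduct.map (AlgHom.id A A) (r₁ l) (b (src l)) -
        Algebra.TensorProduct.map (AlgHom.id A A) (r₂ l) (b (tgt l)) ∈ maximalIdeal A • (⊤ : Submodule A (A ⊗[R] C l))) →
      Algebra.TensorProduct.lift (AlgHom.id A A) ((Algebra.ofId R A).comp ψ) (fun _ _ => Commute.all _ _) (b j₀) ∈ maximalIdeal A →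
      ∀ j, b j ∈ maximalIdeal A • (⊤ : Submodule A (A ⊗[R] B j)))
    (s : ∀ j, B j) (hs : ∀ l, r₁ l (s (src l)) = r₂ l (s (tgt l))) (hψ : ψ (s j₀) = 0)
    (j : J) (q : Ideal (A ⊗[R] B j)) [q.IsPrime] (hq : (maximalIdeal A).map (algebraMap A (A ⊗[R] B j)) ≤ q) :
    algebraMap (A ⊗[R] B j) (Localization.AtPrime q) ((1 : A) ⊗ₜ s j) = 0 := by
  classical
  set p := maximalIdeal R
  choose KB hKBfg hKB using fun j => exists_kill A p (B j)
  choose KC hKCfg hKC using fun l => exists_kill A p (C l)
  cases nonempty_fintype J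
  cases nonempty_fintype L
  let R' := Finset.univ.sup KB ⊔ Finset.univ.sup KC
  have hR'fg : R'.FG := (Finset.sup_induction (p := fun S : Subalgebra R A => S.FG) Subalgebra.fg_bot
    (fun a ha b hb => ha.sup hb) (fun x _ => hKBfg x)).sup (Finset.sup_induction (p := fun S : Subalgebra R A => S.FG)
      Subalgebra.fg_bot (fun a ha b hb => ha.sup hb) (fun x _ => hKCfg x))
  have : Algebra.FiniteType R R' := R'.fg_iff_finiteType.1 hR'fg
  have : IsNoetherianRing R' := Algebra.FiniteType.isNoetherianRing R R'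
  let P : Ideal R' := (maximalIdeal A).comap R'.val.toRingHom
  have : P.IsPrime := Ideal.IsPrime.comap _
  let S := Localization.AtPrime P
  have hunit : ∀ y : P.primeCompl, IsUnit (R'.val y) := by
    rintro ⟨y, hy⟩
    by_contra hc
    exact hy (show R'.val y ∈ maximalIdeal A from hc)
  let val₁ : S →ₐ[R] A := IsLocalization.liftAlgHom (M := P.primeCompl) (f := R'.val) hunit
  let emb : R' →ₐ[R] S := IsScalarTower.toAlgHom R R' S
  have hval : ∀ x, val₁ (emb x) = R'.val x := fun x => by simp [val₁, emb, IsLocalization.lift_eq]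
  have hmax : ∀ x : S, x ∈ maximalIdeal S ↔ val₁ x ∈ maximalIdeal A := by
    intro x
    obtain ⟨⟨a, t⟩, hat⟩ := IsLocalization.surj P.primeCompl x
    have h1 : x ∈ maximalIdeal S ↔ a ∈ P := by
      rw [← IsLocalization.AtPrime.to_map_mem_maximal_iff S P a, ← hat]
      exact ((maximalIdeal S).mul_unit_mem_iff_mem (IsLocalization.map_units S t)).symm
    rw [h1]
    have h2 : val₁ x * R'.val t = R'.val a := by
      rw [← hval, ← hval, ← map_mul]; exact congrArg val₁ hat
    show R'.val a ∈ maximalIdeal A ↔ _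
    rw [← h2]
    exact (maximalIdeal A).mul_unit_mem_iff_mem (hunit t)
  have hpS : p.map (algebraMap R S) ≤ maximalIdeal S := by
    rw [Ideal.map_le_iff_le_comap]
    intro x hx
    rw [Ideal.mem_comap, hmax, AlgHom.commutes]
    exact map_nonunit (algebraMap R A) x hx
  have hrelC : ∀ l, HasRelProp S (S ⊗[R] C l) := fun l n r b hb hmin u hu i =>
    mem_maximalIdeal_smul_of_relation p (C l) hpS
      (hKC l S (emb.comp (Subalgebra.inclusion ((Finset.le_sup (Finset.mem_univ l)).trans le_sup_right)))) n hb hmin hu i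
  have : IsNoetherianRing S := IsLocalization.isNoetherianRing P.primeCompl S inferInstance
  exact atPrime_eq_zero_of_stage B C src tgt r₁ r₂ val₁ hmax hrelC j₀ ψ hfib s hs hψ j q hq

end Model

end Groth.Agent.AbSchLib
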