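import Mathlib.RingTheory.Flat.EquationalCriterion
import Mathlib.RingTheory.LocalRing.MaximalIdeal.Basic
import Mathlib.RingTheory.Finiteness.Cardinality
import Mathlib.RingTheory.Noetherian.Defs
import Mathlib.RingTheory.Ideal.Operations
import Mathlib.RingTheory.Ideal.Maps

/-!
# Minimal generators of an ideal and flat algebras
-/

namespace Groth.Agent.AbSchLib

open IsLocalRing

variable {A : Type*} [CommRing A] [IsLocalRing A]

/-- A finitely generated ideal of a local ring has a generating family whose relations all have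
coefficients in the maximal ideal. -/
theorem exists_minimal_generators (J : Ideal A) (hJ : J.FG) :
    ∃ (r : ℕ) (b : Fin r → A), J = Ideal.span (Set.range b) ∧
      ∀ a : Fin r → A, ∑ i, a i * b i = 0 → ∀ i, a i ∈ maximalIdeal A := by
  classical
  have hne : ∃ r, ∃ b : Fin r → A, J = Ideal.span (Set.range b) := by
    obtain ⟨n, b, hb⟩ := Submodule.fg_iff_exists_fin_generating_family.1 hJ
    exact ⟨n, b, hb.symm⟩
  obtain ⟨b, hb⟩ := Nat.find_spec hne
  refine ⟨_, b, hb, fun a ha i => ?_⟩
  by_contra hi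
  obtain ⟨u, hu⟩ : IsUnit (a i) := by simpa using hi
  obtain ⟨r, hr⟩ : ∃ r, Nat.find hne = r + 1 := ⟨Nat.find hne - 1, by have := i.isLt; omega⟩
  refine Nat.find_min hne (m := r) (by omega) ?_
  revert b a i u
  rw [hr]
  intro b hb a ha i hi u hu
  refine ⟨b ∘ i.succAbove, le_antisymm ?_ ?_⟩
  · rw [hb, Ideal.span_le]
    rintro _ ⟨j, rfl⟩
    rcases eq_or_ne j i with rfl | hj
    · have e : b j = -(↑u⁻¹ : A) * ∑ k : Fin r, a (j.succAbove k) * b (j.succAbove k) := by
        rw [Fin.sum_univ_succAbove _ j, ← hu] at ha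
        calc b j = (↑u⁻¹ : A) * (↑u * b j) := by rw [← mul_assoc, Units.inv_mul, one_mul]
          _ = _ := by rw [eq_neg_of_add_eq_zero_left ha, mul_neg, neg_mul]
      rw [SetLike.mem_coe, e]
      exact Ideal.mul_mem_left _ _ (Submodule.sum_mem _ fun k _ =>
        Ideal.mul_mem_left _ _ (Ideal.subset_span ⟨k, rfl⟩))
    · obtain ⟨k, rfl⟩ := Fin.exists_succAbove_eq hj
      exact Ideal.subset_span ⟨k, rfl⟩
  · rw [hb]
    exact Ideal.span_mono (Set.range_comp_subset_range _ _)

variable {B : Type*} [CommRing B] [Algebra A B] [Module.Flat A B]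

/-- Coefficients with respect to minimal generators are unique modulo the maximal ideal in a flat algebra. -/
theorem mem_map_maximalIdeal_of_sum_eq_zero {r : ℕ} {b : Fin r → A}
    (hmin : ∀ a : Fin r → A, ∑ i, a i * b i = 0 → ∀ i, a i ∈ maximalIdeal A)
    {u : Fin r → B} (hu : ∑ i, u i * algebraMap A B (b i) = 0) (i : Fin r) :
    u i ∈ (maximalIdeal A).map (algebraMap A B) := by
  have h : ∑ j, b j • u j = 0 := by
    simpa [Algebra.smul_def, mul_comm] using hu
  obtain ⟨κ, a, y, hy, ha⟩ := Module.Flat.isTrivialRelation_of_sum_smul_eq_zero h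
  rw [hy i]
  refine Submodule.sum_mem _ fun j _ => ?_
  rw [Algebra.smul_def]
  refine Ideal.mul_mem_right _ _ (Ideal.mem_map_of_mem _ ?_)
  exact hmin (fun k => a k j) (by simpa [mul_comm] using ha j) i

/-- If `∑ uᵢ bᵢ` lies in `𝔪 · span b`, all `uᵢ` lie in `𝔪 B`. -/
theorem mem_map_maximalIdeal_of_sum_mem {r : ℕ} {b : Fin r → A}
    (hmin : ∀ a : Fin r → A, ∑ i, a i * b i = 0 → ∀ i, a i ∈ maximalIdeal A)
    {u : Fin r → B}
    (hu : ∑ i, u i * algebraMap A B (b i) ∈ (maximalIdeal A * Ideal.span (Set.range b)).map (algebraMap A B))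
    (i : Fin r) : u i ∈ (maximalIdeal A).map (algebraMap A B) := by
  have hle : (maximalIdeal A * Ideal.span (Set.range b)).map (algebraMap A B) ≤
      (maximalIdeal A).map (algebraMap A B) * Ideal.span (Set.range fun i => algebraMap A B (b i)) := by
    rw [Ideal.map_mul, Ideal.map_span, ← Set.range_comp]
    exact le_rfl
  have := hle hu
  obtain ⟨v, hv, hvs⟩ : ∃ v : Fin r → B, (∀ j, v j ∈ (maximalIdeal A).map (algebraMap A B)) ∧
      ∑ j, v j * algebraMap A B (b j) = ∑ j, u j * algebraMap A B (b j) := by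
    generalize ∑ j, u j * algebraMap A B (b j) = t at this ⊢
    induction this using Submodule.mul_induction_on' with
    | mem_mul_mem m hm n hn =>
      obtain ⟨c, hc⟩ := (Submodule.mem_span_range_iff_exists_fun B).1 hn
      exact ⟨fun j => m * c j, fun j => Ideal.mul_mem_right _ _ hm, by
        rw [← hc, Finset.mul_sum]; exact Finset.sum_congr rfl fun j _ => by rw [smul_eq_mul, mul_assoc]⟩
    | add x _ y _ hx hy =>
      obtain ⟨v, hv, rfl⟩ := hx
      obtain ⟨w, hw, rfl⟩ := hy
      exact ⟨fun j => v j + w j, fun j => Ideal.add_mem _ (hv j) (hw j), by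
        simp [add_mul, Finset.sum_add_distrib]⟩
  have h0 : ∑ j, (u j - v j) * algebraMap A B (b j) = 0 := by
    simp [sub_mul, Finset.sum_sub_distrib, hvs]
  simpa using Ideal.add_mem _ (mem_map_maximalIdeal_of_sum_eq_zero hmin h0 i) (hv i)

end Groth.Agent.AbSchLib
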