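import Mathlib.AlgebraicGeometry.Morphisms.Flat
import Mathlib.AlgebraicGeometry.Noetherian
import Mathlib.RingTheory.Filtration
import Mathlib.RingTheory.LocalRing.ResidueField.Basic
import Groth.Agent.AbSchLib.FlatInduction

/-!
# Functions on a flat scheme over a local ring vanishing along a section
-/

universe u

open CategoryTheory Limits AlgebraicGeometry Opposite TopologicalSpace

namespace Groth.Agent.AbSchLib

variable {A : CommRingCat.{u}} [IsLocalRing A] {X : Scheme.{u}} (g : X ⟶ Spec A)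

/-- The structure map on sections over an open. -/
noncomputable abbrev strMap (U : X.Opens) : A ⟶ Γ(X, U) :=
  (Scheme.ΓSpecIso A).inv ≫ g.appLE ⊤ U (show U ≤ g ⁻¹ᵁ ⊤ from le_top)

theorem strMap_res {U W : X.Opens} (h : W ≤ U) :
    strMap g U ≫ X.presheaf.map (homOfLE h).op = strMap g W := by
  rw [Category.assoc, Scheme.Hom.appLE_map]

/-- The closed point as a morphism. -/
noncomputable abbrev closedPt (A : CommRingCat.{u}) [IsLocalRing A] :
    Spec (CommRingCat.of (IsLocalRing.ResidueField A)) ⟶ Spec A :=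
  Spec.map (CommRingCat.ofHom (IsLocalRing.residue A))

theorem appLE_closedPt_inv :
    (Scheme.ΓSpecIso A).inv ≫ (closedPt A).appTop =
      CommRingCat.ofHom (IsLocalRing.residue A) ≫ (Scheme.ΓSpecIso (CommRingCat.of (IsLocalRing.ResidueField A))).inv :=
  (Scheme.ΓSpecIso_inv_naturality _).symm

theorem fibre_app_eq_zero_iff {U : X.Opens} (hU : IsAffineOpen U) (x : Γ(X, U)) :
    (pullback.fst g (closedPt A)).app U x = 0 ↔
      x ∈ (IsLocalRing.maximalIdeal A).map (strMap g U).hom := by
  set p := pullback.fst g (closedPt A)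
  set gk := pullback.snd g (closedPt A)
  have hle : p ⁻¹ᵁ U ≤ gk ⁻¹ᵁ ⊤ := by simp
  have w : strMap g U ≫ p.app U = CommRingCat.ofHom (IsLocalRing.residue A) ≫
      (Scheme.ΓSpecIso (CommRingCat.of (IsLocalRing.ResidueField A))).inv ≫ gk.appLE ⊤ (p ⁻¹ᵁ U) hle := by
    rw [← Category.assoc, ← appLE_closedPt_inv, Category.assoc, Category.assoc, Scheme.Hom.app_eq_appLE,
      Scheme.Hom.appLE_comp_appLE, Scheme.Hom.appTop, Scheme.Hom.app_eq_appLE]
    erw [Scheme.Hom.appLE_comp_appLE]
    congr 2
    exact pullback.condition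
  constructor
  · intro hx
    have H := IsPullback.of_hasPullback g (closedPt A)
    have := isIso_pushoutSection_of_isAffineOpen H (US := ⊤) (UT := ⊤) (UX := U) (UY := p ⁻¹ᵁ U)
      (by simp) (by simp) (by simp [p]) (isAffineOpen_top _) (isAffineOpen_top _) hU
    have hpo := (isIso_pushoutSection_iff H (US := ⊤) (UT := ⊤) (UX := U) (UY := p ⁻¹ᵁ U)
      (by simp) (by simp) (by simp [p])).1 this
    let I := (IsLocalRing.maximalIdeal A).map (strMap g U).hom
    let q : CommRingCat.of (IsLocalRing.ResidueField A) ⟶ CommRingCat.of (Γ(X, U) ⧸ I) :=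
      CommRingCat.ofHom (Ideal.quotientMap I (strMap g U).hom Ideal.le_comap_map)
    have hc : g.appLE ⊤ U (show U ≤ g ⁻¹ᵁ ⊤ from le_top) ≫ CommRingCat.ofHom (Ideal.Quotient.mk I) =
        (closedPt A).appLE ⊤ ⊤ (show ⊤ ≤ (closedPt A) ⁻¹ᵁ ⊤ from le_top) ≫ (Scheme.ΓSpecIso (CommRingCat.of (IsLocalRing.ResidueField A))).hom ≫ q := by
      rw [← cancel_epi (Scheme.ΓSpecIso A).inv]
      have e : (Scheme.ΓSpecIso A).inv ≫ (closedPt A).appLE ⊤ ⊤ (show ⊤ ≤ (closedPt A) ⁻¹ᵁ ⊤ from le_top) =
          CommRingCat.ofHom (IsLocalRing.residue A) ≫ (Scheme.ΓSpecIso (CommRingCat.of (IsLocalRing.ResidueField A))).inv := by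
        rw [← appLE_closedPt_inv]
        simp [Scheme.Hom.appLE, Scheme.Hom.appTop]
      rw [reassoc_of% e, Iso.inv_hom_id_assoc]
      ext a
      rfl
    obtain ⟨d, hd, -⟩ : ∃ d, p.appLE U (p ⁻¹ᵁ U) le_rfl ≫ d = CommRingCat.ofHom (Ideal.Quotient.mk I) ∧ True :=
      ⟨hpo.desc _ _ hc, hpo.inl_desc _ _ hc, trivial⟩
    rw [← Ideal.Quotient.eq_zero_iff_mem]
    have h1 : Ideal.Quotient.mk I x = d (p.appLE U (p ⁻¹ᵁ U) le_rfl x) := congr($(hd.symm) x)
    rw [h1, Scheme.Hom.appLE_eq_app, hx, map_zero]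
  · intro hx
    revert hx
    suffices (IsLocalRing.maximalIdeal A).map (strMap g U).hom ≤ RingHom.ker (p.app U).hom from fun hx => this hx
    rw [Ideal.map_le_iff_le_comap]
    intro a ha
    rw [Ideal.mem_comap, RingHom.mem_ker]
    have := congr($w a)
    simp only [CommRingCat.comp_apply] at this ⊢
    rw [this]
    have : IsLocalRing.residue A a = 0 := (IsLocalRing.residue_eq_zero_iff a).2 ha
    simp [this]

variable [IsNoetherianRing A] [Flat g] (e : Spec A ⟶ X) (he : e ≫ g = 𝟙 _)
  (hk : Function.Surjective (pullback.snd g (closedPt A)).appTop.hom)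

include he hk in
/-- A function vanishing along a section lies in every power of the maximal ideal. -/
theorem mem_map_pow_of_section (s : Γ(X, ⊤)) (hs : e.appTop s = 0) (n : ℕ) :
    ∀ U : X.affineOpens, X.presheaf.map (homOfLE le_top).op s ∈
      (IsLocalRing.maximalIdeal A ^ n).map (strMap g U.1).hom := by
  induction n with
  | zero => intro U; simp [Ideal.map_top]
  | succ n ih =>
    set m := IsLocalRing.maximalIdeal A
    set p := pullback.fst g (closedPt A)
    set gk := pullback.snd g (closedPt A)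
    obtain ⟨r, b, hb, hmin⟩ := exists_minimal_generators (m ^ n) (IsNoetherian.noetherian _)
    have hflat : ∀ U : X.affineOpens, (strMap g U.1).hom.Flat := fun U =>
      RingHom.Flat.comp (RingHom.Flat.of_bijective (ConcreteCategory.bijective_of_isIso (Scheme.ΓSpecIso A).inv))
        (g.flat_appLE (isAffineOpen_top _) U.2 _)
    have hex : ∀ U : X.affineOpens, ∃ v : Fin r → Γ(X, U.1),
        ∑ i, v i * strMap g U.1 (b i) = X.presheaf.map (homOfLE le_top).op s := by
      intro U
      have := ih U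
      rw [hb, Ideal.map_span, ← Set.range_comp] at this
      exact (Submodule.mem_span_range_iff_exists_fun Γ(X, U.1)).1 this
    choose v hv using hex
    -- uniqueness of the coefficients on the fibre
    have huniq : ∀ (W : X.affineOpens) (a a' : Fin r → Γ(X, W.1)),
        ∑ i, a i * strMap g W.1 (b i) = ∑ i, a' i * strMap g W.1 (b i) →
          ∀ i, p.app W.1 (a i) = p.app W.1 (a' i) := by
      intro W a a' haa i
      let := (strMap g W.1).hom.toAlgebra
      have : Module.Flat A Γ(X, W.1) := hflat W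
      have h0 : ∑ j, (a j - a' j) * algebraMap A Γ(X, W.1) (b j) = 0 := by
        simp only [RingHom.algebraMap_toAlgebra, sub_mul, Finset.sum_sub_distrib]
        exact sub_eq_zero.2 haa
      have := mem_map_maximalIdeal_of_sum_eq_zero hmin h0 i
      rw [RingHom.algebraMap_toAlgebra, ← fibre_app_eq_zero_iff g W.2, map_sub, sub_eq_zero] at this
      exact this
    let V : X.affineOpens → (pullback g (closedPt A)).Opens := fun U => p ⁻¹ᵁ U.1
    have hcov : (⊤ : (pullback g (closedPt A)).Opens) ≤ iSup V := by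
      intro y _
      obtain ⟨_, ⟨U, hU, rfl⟩, hyU, -⟩ :=
        X.isBasis_affineOpens.exists_subset_of_mem_open (Set.mem_univ (p y)) isOpen_univ
      exact Opens.mem_iSup.2 ⟨⟨U, hU⟩, hyU⟩
    have hcompat : ∀ i : Fin r, TopCat.Presheaf.IsCompatible (pullback g (closedPt A)).presheaf V
        (fun U => p.app U.1 (v U i)) := by
      intro i U U'
      let Wt := {W : X.affineOpens // W.1 ≤ U.1 ⊓ U'.1}
      refine TopCat.Sheaf.eq_of_locally_eq' (pullback g (closedPt A)).sheaf (fun W : Wt => p ⁻¹ᵁ W.1.1) (V U ⊓ V U')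
        (fun W => homOfLE (fun y hy => ⟨(W.2 hy).1, (W.2 hy).2⟩)) ?_ _ _ fun W => ?_
      · intro y hy
        obtain ⟨_, ⟨W, hW, rfl⟩, hyW, hWle⟩ :=
          X.isBasis_affineOpens.exists_subset_of_mem_open (show p y ∈ (U.1 ⊓ U'.1 : X.Opens) from hy) (U.1 ⊓ U'.1).isOpen
        exact Opens.mem_iSup.2 ⟨⟨⟨W, hW⟩, hWle⟩, hyW⟩
      · have h1 : W.1.1 ≤ U.1 := W.2.trans inf_le_left
        have h2 : W.1.1 ≤ U'.1 := W.2.trans inf_le_right
        have key := huniq W.1 (fun j => X.presheaf.map (homOfLE h1).op (v U j))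
          (fun j => X.presheaf.map (homOfLE h2).op (v U' j)) ?_ i
        · have n1 : (pullback g (closedPt A)).presheaf.map (homOfLE (show p ⁻¹ᵁ W.1.1 ≤ V U from fun y hy => h1 hy)).op (p.app U.1 (v U i))
              = p.app W.1.1 (X.presheaf.map (homOfLE h1).op (v U i)) := (congr($(p.naturality (homOfLE h1).op) (v U i))).symm
          have n2 : (pullback g (closedPt A)).presheaf.map (homOfLE (show p ⁻¹ᵁ W.1.1 ≤ V U' from fun y hy => h2 hy)).op (p.app U'.1 (v U' i))
              = p.app W.1.1 (X.presheaf.map (homOfLE h2).op (v U' i)) := (congr($(p.naturality (homOfLE h2).op) (v U' i))).symm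
          have c1 : ∀ {a b c : (pullback g (closedPt A)).Opens} (f₁ : a ⟶ b) (f₂ : b ⟶ c) (f₃ : a ⟶ c) (t : Γ(pullback g (closedPt A), c)),
              (pullback g (closedPt A)).presheaf.map f₁.op ((pullback g (closedPt A)).presheaf.map f₂.op t) =
                (pullback g (closedPt A)).presheaf.map f₃.op t := by
            intro a b c f₁ f₂ f₃ t
            rw [← CommRingCat.comp_apply, ← Functor.map_comp, ← op_comp, Subsingleton.elim (f₁ ≫ f₂) f₃]
          exact (c1 _ _ _ _).trans (n1.trans (key.trans (n2.symm.trans (c1 _ _ _ _).symm)))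
        · have e1 : ∀ (U₀ : X.affineOpens) (h : W.1.1 ≤ U₀.1),
              ∑ j, X.presheaf.map (homOfLE h).op (v U₀ j) * strMap g W.1.1 (b j) =
                X.presheaf.map (homOfLE (le_top : W.1.1 ≤ ⊤)).op s := by
            intro U₀ h
            have := congrArg (X.presheaf.map (homOfLE h).op) (hv U₀)
            simp only [map_sum, map_mul, ← CommRingCat.comp_apply, strMap_res, ← Functor.map_comp] at this
            exact this
          exact (e1 U h1).trans (e1 U' h2).symm
    intro U
    have hzero : ∀ i, p.app U.1 (v U i) = 0 := by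
      intro i
      obtain ⟨τ, hτ, -⟩ := TopCat.Sheaf.existsUnique_gluing' (pullback g (closedPt A)).sheaf V ⊤
        (fun W => homOfLE le_top) hcov _ (hcompat i)
      obtain ⟨c, hc⟩ := hk τ
      -- evaluate at the section
      let ek : Spec (CommRingCat.of (IsLocalRing.ResidueField A)) ⟶ pullback g (closedPt A) :=
        pullback.lift (closedPt A ≫ e) (𝟙 _) (by simp [he])
      obtain ⟨_, ⟨U₀, hU₀, rfl⟩, hxU₀, -⟩ :=
        X.isBasis_affineOpens.exists_subset_of_mem_open (Set.mem_univ (e (IsLocalRing.closedPoint A))) isOpen_univ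
      have he0 : (⊤ : (Spec A).Opens) ≤ e ⁻¹ᵁ U₀ := by
        exact (IsLocalRing.closed_point_mem_iff (U := e ⁻¹ᵁ U₀) |>.1 hxU₀).ge
      let ψ := e.appLE U₀ ⊤ he0 ≫ (Scheme.ΓSpecIso A).hom
      have hψ : strMap g U₀ ≫ ψ = 𝟙 A := by
        simp only [ψ, Category.assoc, Scheme.Hom.appLE_comp_appLE_assoc, he]
        simp [Scheme.Hom.appLE]
      have hψs : ψ (X.presheaf.map (homOfLE le_top).op s) = 0 := by
        have : X.presheaf.map (homOfLE le_top).op ≫ e.appLE U₀ ⊤ he0 = e.appTop := by
          rw [Scheme.Hom.map_appLE]; simp [Scheme.Hom.appLE, Scheme.Hom.appTop]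
        simp only [ψ, CommRingCat.comp_apply]
        rw [← CommRingCat.comp_apply (X.presheaf.map (homOfLE le_top).op), this, hs, map_zero]
      have hψv : ψ (v ⟨U₀, hU₀⟩ i) ∈ m := by
        refine hmin (fun j => ψ (v ⟨U₀, hU₀⟩ j)) ?_ i
        rw [← hψs, ← hv ⟨U₀, hU₀⟩, map_sum]
        refine Finset.sum_congr rfl fun j _ => ?_
        rw [map_mul, ← CommRingCat.comp_apply (strMap g U₀) ψ, hψ]
        rfl
      have hτ0 : c = 0 := by
        have h1 : ek.appTop τ = c := by
          have : gk.appTop ≫ ek.appTop = 𝟙 _ := by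
            have h := Scheme.Hom.comp_appTop ek gk
            rw [show ek ≫ gk = 𝟙 _ from pullback.lift_snd _ _ _, Scheme.Hom.id_appTop] at h
            exact h.symm
          rw [← hc, ← CommRingCat.comp_apply, this]
          rfl
        have h2 : ek.appTop τ = 0 := by
          have hle : (⊤ : (Spec (CommRingCat.of (IsLocalRing.ResidueField A))).Opens) ≤ ek ⁻¹ᵁ V ⟨U₀, hU₀⟩ := by
            intro y _
            have hy : (ek ≫ p) y ∈ U₀ := by
              simp only [ek, p, pullback.lift_fst, Scheme.Hom.comp_apply]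
              exact he0 (Set.mem_univ _)
            exact hy
          have h21 : ek.appTop = (pullback g (closedPt A)).presheaf.map (homOfLE (le_top : V ⟨U₀, hU₀⟩ ≤ ⊤)).op ≫
              ek.appLE _ ⊤ hle := by
            rw [Scheme.Hom.map_appLE]; simp [Scheme.Hom.appLE, Scheme.Hom.appTop]
          have hτ' : (pullback g (closedPt A)).presheaf.map (homOfLE (le_top : V ⟨U₀, hU₀⟩ ≤ ⊤)).op τ = p.app U₀ (v ⟨U₀, hU₀⟩ i) :=
            hτ ⟨U₀, hU₀⟩
          rw [h21, CommRingCat.comp_apply, hτ', ← CommRingCat.comp_apply, Scheme.Hom.app_eq_appLE,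
            Scheme.Hom.appLE_comp_appLE]
          have h22 : (ek ≫ p).appLE U₀ ⊤ hle = ψ ≫ (Scheme.ΓSpecIso A).inv ≫ (closedPt A).appTop := by
            simp only [ψ, Category.assoc, Iso.hom_inv_id_assoc]
            rw [Scheme.Hom.appTop, Scheme.Hom.app_eq_appLE]
            erw [Scheme.Hom.appLE_comp_appLE]
            congr 1
            exact pullback.lift_fst _ _ _
          rw [h22, appLE_closedPt_inv]
          have hres : IsLocalRing.residue A (ψ (v ⟨U₀, hU₀⟩ i)) = 0 := (IsLocalRing.residue_eq_zero_iff _).2 hψv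
          simp only [CommRingCat.comp_apply, CommRingCat.hom_ofHom]
          rw [hres, map_zero]
        rw [← h1, h2]
      rw [← hc, hτ0, map_zero] at hτ
      have := hτ U
      erw [map_zero] at this
      exact this.symm
    rw [← hv U]
    refine Submodule.sum_mem _ fun i _ => ?_
    rw [pow_succ', Ideal.map_mul]
    exact Ideal.mul_mem_mul ((fibre_app_eq_zero_iff g U.2 _).1 (hzero i))
      (Ideal.mem_map_of_mem _ (hb ▸ Ideal.subset_span ⟨i, rfl⟩))

include he hk in
/-- Such a function vanishes in the stalks over the closed point. -/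
theorem germ_eq_zero_of_section [LocallyOfFiniteType g] (s : Γ(X, ⊤)) (hs : e.appTop s = 0) (x : X)
    (hx : g x = IsLocalRing.closedPoint A) : X.presheaf.germ ⊤ x trivial s = 0 := by
  have : IsLocallyNoetherian X := LocallyOfFiniteType.isLocallyNoetherian g
  obtain ⟨_, ⟨U, hU, rfl⟩, hxU, -⟩ :=
    X.isBasis_affineOpens.exists_subset_of_mem_open (Set.mem_univ x) isOpen_univ
  set φ := (X.presheaf.germ U x hxU).hom.comp (strMap g U).hom
  have hle : (IsLocalRing.maximalIdeal A).map φ ≤ IsLocalRing.maximalIdeal (X.presheaf.stalk x) := by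
    rw [Ideal.map_le_iff_le_comap]
    intro a ha
    rw [Ideal.mem_comap, IsLocalRing.mem_maximalIdeal, mem_nonunits_iff]
    show ¬ IsUnit (X.presheaf.germ U x hxU (g.appLE ⊤ U le_top ((Scheme.ΓSpecIso A).inv a)))
    rw [← Scheme.mem_basicOpen _ _ x hxU, Scheme.basicOpen_appLE]
    rintro ⟨-, hx'⟩
    have hx'' : g x ∈ (Spec A).basicOpen ((Scheme.ΓSpecIso A).inv a) := hx'
    rw [hx, basicOpen_eq_of_affine] at hx''
    exact hx'' ha
  have hmem : ∀ n : ℕ, X.presheaf.germ ⊤ x trivial s ∈ IsLocalRing.maximalIdeal (X.presheaf.stalk x) ^ n := by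
    intro n
    have h1 := Ideal.mem_map_of_mem (X.presheaf.germ U x hxU).hom (mem_map_pow_of_section g e he hk s hs n ⟨U, hU⟩)
    rw [Ideal.map_map, Ideal.map_pow] at h1
    rw [TopCat.Presheaf.germ_res_apply] at h1
    exact Ideal.pow_right_mono hle n h1
  have hb := Ideal.iInf_pow_eq_bot_of_isLocalRing (IsLocalRing.maximalIdeal (X.presheaf.stalk x))
    (IsLocalRing.maximalIdeal.isMaximal _).ne_top
  rw [← Submodule.mem_bot (R := X.presheaf.stalk x), ← hb]
  exact Submodule.mem_iInf _ |>.2 hmem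

end Groth.Agent.AbSchLib
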