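import Mathlib.AlgebraicGeometry.Morphisms.Proper
import Mathlib.AlgebraicGeometry.Morphisms.UniversallyOpen
import Mathlib.AlgebraicGeometry.PullbackCarrier
import Groth.Agent.AbSchLib.GlobalSections
import Groth.Agent.AbSchLib.LocalCore

/-!
# The rigidity lemma for proper flat morphisms with a section, locally Noetherian base
-/

universe u

open CategoryTheory Limits AlgebraicGeometry Opposite TopologicalSpace

namespace Groth.Agent.AbSchLib

variable {T X Y : Scheme.{u}}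

theorem flat_fromSpecStalk (t : T) : Flat (T.fromSpecStalk t) := by
  obtain ⟨_, ⟨V, hV, rfl⟩, htV, -⟩ :=
    T.isBasis_affineOpens.exists_subset_of_mem_open (Set.mem_univ t) isOpen_univ
  rw [← hV.fromSpecStalk_eq_fromSpecStalk htV, IsAffineOpen.fromSpecStalk]
  let := (T.presheaf.germ V t htV).hom.toAlgebra
  have := hV.isLocalization_stalk ⟨t, htV⟩
  have h1 : Flat (Spec.map (T.presheaf.germ V t htV)) :=
    Flat.SpecMap_iff.2 (RingHom.flat_algebraMap_iff.mpr
      (IsLocalization.flat (R := Γ(T, V)) (T.presheaf.stalk t) (hV.primeIdealOf ⟨t, htV⟩).asIdeal.primeCompl))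
  infer_instance

/-- The germ at a point over `t` of a function killed by the section is zero. -/
theorem germ_eq_zero_of_section' [IsLocallyNoetherian T] (g : X ⟶ T) [Flat g] [LocallyOfFiniteType g]
    [UniversallyClosed g] [QuasiSeparated g] [GeometricallyConnected g] [GeometricallyReduced g]
    (e : T ⟶ X) (he : e ≫ g = 𝟙 T) (V : T.Opens) (hle : V ≤ e ⁻¹ᵁ (g ⁻¹ᵁ V)) (s : Γ(X, g ⁻¹ᵁ V))
    (hs : e.appLE (g ⁻¹ᵁ V) V hle s = 0) (x : X) (hx : g x ∈ V) :
    X.presheaf.germ (g ⁻¹ᵁ V) x hx s = 0 := by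
  set t := g x
  let j := T.fromSpecStalk t
  have : Flat j := flat_fromSpecStalk t
  let p := pullback.fst g j
  let g' := pullback.snd g j
  let e' : Spec (T.presheaf.stalk t) ⟶ pullback g j := pullback.lift (j ≫ e) (𝟙 _) (by simp [he])
  have he' : e' ≫ g' = 𝟙 _ := pullback.lift_snd _ _ _
  have hjV : ∀ y, j y ∈ V := by
    intro y
    have hy : j y ∈ Set.range j := ⟨y, rfl⟩
    rw [Scheme.range_fromSpecStalk] at hy
    exact hy.mem_open V.isOpen hx
  have hp : (⊤ : (pullback g j).Opens) ≤ p ⁻¹ᵁ (g ⁻¹ᵁ V) := by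
    intro y _
    have h1 : (p ≫ g) y = (g' ≫ j) y := by simp only [p, g', pullback.condition]
    have h2 : j (g' y) ∈ V := hjV _
    rw [← Scheme.Hom.comp_apply, ← h1] at h2
    exact h2
  let s' := p.appLE (g ⁻¹ᵁ V) ⊤ hp s
  have hs' : e'.appTop s' = 0 := by
    have hj : (⊤ : (Spec (T.presheaf.stalk t)).Opens) ≤ j ⁻¹ᵁ V := fun y _ => hjV y
    have : p.appLE (g ⁻¹ᵁ V) ⊤ hp ≫ e'.appTop = e.appLE (g ⁻¹ᵁ V) V hle ≫ j.appLE V ⊤ hj := by
      rw [Scheme.Hom.appTop, Scheme.Hom.app_eq_appLE]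
      erw [Scheme.Hom.appLE_comp_appLE, Scheme.Hom.appLE_comp_appLE]
      congr 1
      exact pullback.lift_fst _ _ _
    simp only [s', ← CommRingCat.comp_apply, this]
    rw [CommRingCat.comp_apply, hs, map_zero]
  obtain ⟨x', hx'1, hx'2⟩ := Scheme.Pullback.exists_preimage_pullback (f := g) (g := j) x
    (IsLocalRing.closedPoint _) (by simp [j, t])
  have hk : Function.Surjective (pullback.snd g' (closedPt (T.presheaf.stalk t))).appTop.hom :=
    (bijective_appTop_of_field _ _).2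
  have h0 := germ_eq_zero_of_section g' e' he' hk s' hs' x' hx'2
  have hinj : Function.Injective (p.stalkMap x').hom := by
    algebraize [(p.stalkMap x').hom]
    have : Module.FaithfullyFlat (X.presheaf.stalk (p x')) ((pullback g j).presheaf.stalk x') :=
      @Module.FaithfullyFlat.of_flat_of_isLocalHom _ _ _ _ _ _ _
        (Flat.stalkMap p x') (p.toLRSHom.prop x')
    exact ‹RingHom.FaithfullyFlat _›.injective
  suffices ∀ (hy : p x' ∈ g ⁻¹ᵁ V), X.presheaf.germ (g ⁻¹ᵁ V) (p x') hy s = 0 by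
    have key : ∀ (y : X), y = x → (∀ hy : y ∈ g ⁻¹ᵁ V, X.presheaf.germ (g ⁻¹ᵁ V) y hy s = 0) →
        X.presheaf.germ (g ⁻¹ᵁ V) x hx s = 0 := by
      rintro y rfl h; exact h _
    exact key _ hx'1 this
  intro hy
  apply hinj
  rw [map_zero]
  erw [Scheme.Hom.germ_stalkMap_apply]
  rw [← h0]
  simp only [s', Scheme.Hom.appLE, CommRingCat.comp_apply]
  exact (TopCat.Presheaf.germ_res_apply _ _ _ _ _).symm

/-- **Rigidity lemma** (with a section, locally Noetherian base): if a morphism contracts the fibre over `t`, it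
factors through the base over a neighbourhood of `t`. No hypothesis on the target is needed. -/
theorem exists_opens_eq_comp_section [IsLocallyNoetherian T] (g : X ⟶ T) [Flat g] [LocallyOfFiniteType g]
    [UniversallyClosed g] [QuasiSeparated g] [GeometricallyConnected g] [GeometricallyReduced g]
    (e : T ⟶ X) (he : e ≫ g = 𝟙 T) (f : X ⟶ Y) (t : T) (ht : (f '' (g ⁻¹' {t})).Subsingleton) :
    ∃ W : T.Opens, t ∈ W ∧ (g ⁻¹ᵁ W).ι ≫ f = (g ⁻¹ᵁ W).ι ≫ g ≫ e ≫ f := by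
  set h := g ≫ e ≫ f with hh
  have : IsLocallyNoetherian X := LocallyOfFiniteType.isLocallyNoetherian g
  have hget : ∀ a, g (e a) = a := fun a => by rw [← Scheme.Hom.comp_apply, he]; rfl
  have hconst : ∀ x, g x = t → f x = f (e t) ∧ h x = f (e t) := by
    intro x hx
    refine ⟨ht ⟨x, hx, rfl⟩ ⟨e t, hget t, rfl⟩, ?_⟩
    simp [hh, hx]
  obtain ⟨_, ⟨U, hU, rfl⟩, hyU, -⟩ :=
    Y.isBasis_affineOpens.exists_subset_of_mem_open (Set.mem_univ (f (e t))) isOpen_univ
  -- a neighbourhood of `t` over which both maps land in `U`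
  let G : X.Opens := f ⁻¹ᵁ U ⊓ h ⁻¹ᵁ U
  have hGc : IsClosed (g '' (G : Set X)ᶜ) := g.isClosedMap _ G.isOpen.isClosed_compl
  have htG : t ∉ g '' (G : Set X)ᶜ := by
    rintro ⟨x, hxG, hxt⟩
    exact hxG ⟨show f x ∈ U from (hconst x hxt).1 ▸ hyU, show h x ∈ U from (hconst x hxt).2 ▸ hyU⟩
  obtain ⟨_, ⟨V, hV, rfl⟩, htV, hVG⟩ :=
    T.isBasis_affineOpens.exists_subset_of_mem_open (Set.mem_compl htG) hGc.isOpen_compl
  have hVG' : g ⁻¹ᵁ V ≤ G := fun x hx => by
    by_contra hc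
    exact hVG hx ⟨x, hc, rfl⟩
  have hle : V ≤ e ⁻¹ᵁ (g ⁻¹ᵁ V) := fun a ha => show g (e a) ∈ V by rw [hget]; exact ha
  have hker : ∀ a : Γ(Y, U), e.appLE (g ⁻¹ᵁ V) V hle
      (f.appLE U (g ⁻¹ᵁ V) (hVG'.trans inf_le_left) a - h.appLE U (g ⁻¹ᵁ V) (hVG'.trans inf_le_right) a) = 0 := by
    intro a
    rw [map_sub, ← CommRingCat.comp_apply, ← CommRingCat.comp_apply, Scheme.Hom.appLE_comp_appLE,
      Scheme.Hom.appLE_comp_appLE, sub_eq_zero]
    congr 2
    simp [hh, reassoc_of% he]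
  -- a neighbourhood of the fibre on which all these functions vanish
  have hnbhd : ∀ x, g x = t → ∃ N : X.Opens, x ∈ N ∧ ∃ hN : N ≤ g ⁻¹ᵁ V, ∀ a : Γ(Y, U),
      f.appLE U N (hN.trans (hVG'.trans inf_le_left)) a = h.appLE U N (hN.trans (hVG'.trans inf_le_right)) a := by
    intro x hx
    have hxV : x ∈ g ⁻¹ᵁ V := show g x ∈ V by rw [hx]; exact htV
    obtain ⟨_, ⟨W, hW, rfl⟩, hxW, hWV⟩ :=
      X.isBasis_affineOpens.exists_subset_of_mem_open hxV (g ⁻¹ᵁ V).isOpen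
    have : IsNoetherianRing Γ(X, W) := IsLocallyNoetherian.component_noetherian ⟨W, hW⟩
    obtain ⟨S, hS⟩ := IsNoetherian.noetherian (RingHom.ker (X.presheaf.germ W x hxW).hom)
    have hSx : ∀ q ∈ S, X.presheaf.germ W x hxW q = X.presheaf.germ W x hxW 0 := by
      intro q hq
      rw [map_zero]
      exact RingHom.mem_ker.1 (hS ▸ Submodule.subset_span hq)
    choose! M hxM iM hM using fun q (hq : q ∈ S) => X.presheaf.germ_eq (x := x) hxW hxW q 0 (hSx q hq)
    let N : X.Opens := W ⊓ S.inf (fun q => M q)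
    have hxN : x ∈ N := ⟨hxW, by
      have : ∀ S' : Finset Γ(X, W), S' ⊆ S → x ∈ S'.inf (fun q => M q) := by
        classical
        intro S'
        induction S' using Finset.induction with
        | empty => intro _; simp
        | insert q S' _ ih =>
          intro hsub
          rw [Finset.inf_insert]
          exact ⟨hxM q (hsub (Finset.mem_insert_self _ _)), ih (fun z hz => hsub (Finset.mem_insert_of_mem hz))⟩
      exact this S subset_rfl⟩
    refine ⟨N, hxN, inf_le_left.trans hWV, fun a => ?_⟩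
    have hq := germ_eq_zero_of_section' g e he V hle _ (hker a) x hxV
    set q := f.appLE U W (hWV.trans (hVG'.trans inf_le_left)) a - h.appLE U W (hWV.trans (hVG'.trans inf_le_right)) a
    have hqk : q ∈ RingHom.ker (X.presheaf.germ W x hxW).hom := by
      rw [RingHom.mem_ker]
      refine Eq.trans ?_ hq
      rw [← TopCat.Presheaf.germ_res_apply X.presheaf (homOfLE (show W ≤ g ⁻¹ᵁ V from hWV)) x hxW]
      congr 1
      simp only [q, map_sub, ← CommRingCat.comp_apply, Scheme.Hom.appLE_map]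
    have hker' : RingHom.ker (X.presheaf.germ W x hxW).hom ≤ RingHom.ker (X.presheaf.map (homOfLE (inf_le_left : N ≤ W)).op).hom := by
      rw [← hS, Submodule.span_le]
      intro z hz
      rw [SetLike.mem_coe, RingHom.mem_ker]
      have h1 : N ≤ M z := inf_le_right.trans (Finset.inf_le hz)
      have h2 := congrArg (X.presheaf.map (homOfLE h1).op) (hM z hz).choose_spec
      rw [← CommRingCat.comp_apply, ← CommRingCat.comp_apply, ← Functor.map_comp, ← Functor.map_comp, map_zero] at h2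
      exact h2
    have h3 := RingHom.mem_ker.1 (hker' hqk)
    simp only [q, map_sub, ← CommRingCat.comp_apply, Scheme.Hom.appLE_map] at h3
    exact sub_eq_zero.1 h3
  choose! N hxN hNV hN using hnbhd
  let Nall : X.Opens := ⨆ (x : X) (_ : g x = t), N x
  have htN : t ∉ g '' (Nall : Set X)ᶜ := by
    rintro ⟨x, hx, hxt⟩
    exact hx (Opens.mem_iSup.2 ⟨x, Opens.mem_iSup.2 ⟨hxt, hxN x hxt⟩⟩)
  refine ⟨⟨(g '' (Nall : Set X)ᶜ)ᶜ, (g.isClosedMap _ Nall.isOpen.isClosed_compl).isOpen_compl⟩, htN, ?_⟩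
  set Z : X.Opens := g ⁻¹ᵁ (⟨(g '' (Nall : Set X)ᶜ)ᶜ, (g.isClosedMap _ Nall.isOpen.isClosed_compl).isOpen_compl⟩ : T.Opens)
  have hZ : ∀ z : Z, ∃ x : X, g x = t ∧ z.1 ∈ N x := by
    rintro ⟨z, hz⟩
    have : z ∈ Nall := by
      by_contra hc
      exact hz ⟨z, hc, rfl⟩
    obtain ⟨x, hx⟩ := Opens.mem_iSup.1 this
    obtain ⟨hxt, hx⟩ := Opens.mem_iSup.1 hx
    exact ⟨x, hxt, hx⟩
  apply Scheme.Cover.hom_ext (Scheme.openCoverOfIsOpenCover Z.toScheme (fun z : {W : X.affineOpens // W.1 ≤ Z ∧ ∃ x, g x = t ∧ W.1 ≤ N x} => Z.ι ⁻¹ᵁ z.1.1) ?_)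
  · rintro ⟨W, hWZ, x, hxt, hWx⟩
    show (Z.ι ⁻¹ᵁ W.1).ι ≫ Z.ι ≫ f = (Z.ι ⁻¹ᵁ W.1).ι ≫ Z.ι ≫ h
    have : IsAffine W.1 := W.2
    have e0 : (Z.ι ⁻¹ᵁ W.1).ι ≫ Z.ι = (Z.ι ∣_ W.1) ≫ W.1.ι := (morphismRestrict_ι _ _).symm
    rw [← Category.assoc, ← Category.assoc, e0, Category.assoc, Category.assoc]
    congr 1
    rw [← cancel_epi W.2.isoSpec.inv]
    have hWf : W.1 ≤ f ⁻¹ᵁ U := hWx.trans ((hNV x hxt).trans (hVG'.trans inf_le_left))
    have hWh : W.1 ≤ h ⁻¹ᵁ U := hWx.trans ((hNV x hxt).trans (hVG'.trans inf_le_right))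
    have hfs : W.2.isoSpec.inv ≫ W.1.ι = W.2.fromSpec := rfl
    rw [reassoc_of% hfs, reassoc_of% hfs, ← IsAffineOpen.SpecMap_appLE_fromSpec f hU W.2 hWf,
      ← IsAffineOpen.SpecMap_appLE_fromSpec h hU W.2 hWh]
    congr 2
    ext a
    have := congrArg (X.presheaf.map (homOfLE hWx).op) (hN x hxt a)
    simp only [← CommRingCat.comp_apply, Scheme.Hom.appLE_map] at this
    exact this
  · rw [IsOpenCover, eq_top_iff]
    intro z _
    obtain ⟨x, hxt, hzx⟩ := hZ z
    obtain ⟨_, ⟨W, hW, rfl⟩, hzW, hWle⟩ :=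
      X.isBasis_affineOpens.exists_subset_of_mem_open (show z.1 ∈ (Z ⊓ N x : X.Opens) from ⟨z.2, hzx⟩) (Z ⊓ N x).isOpen
    exact Opens.mem_iSup.2 ⟨⟨⟨W, hW⟩, fun a ha => (hWle ha).1, x, hxt, fun a ha => (hWle ha).2⟩, hzW⟩

end Groth.Agent.AbSchLib
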